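import Cfsg.Agent.KFacts.MM.Sub

-- merged: Cfsg.Agent.KFacts.MM.Int
section

/-!
# Facts inside the Sylow 2-subgroup `S = VW⟨c⟩` of `M22`
-/

set_option autoImplicit false

namespace Cfsg.Agent.KFacts.MM.Int

open Cfsg El Data Cfsg.Agent.KFacts.MM.Sub Cfsg.Agent.SporadicA.GolayBase Cfsg.Agent.SporadicA.GolayPerm
open Cfsg.Agent.OddHalf.MM (Nrm Cen El)

/-! ### The intersection -/

theorem mem_V0 {g : Equiv.Perm GolayPt} (hV : g ∈ V) (hW : g ∈ W) : ∃ P ∈ V0L, pm P = g := by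
  obtain ⟨P, hP, rfl⟩ := hV
  obtain ⟨Q, hQ, hPQ⟩ := hW
  have h : (VL.all fun P => WL.all fun Q => !weq [P] [Q] || V0L.any fun R => Nat.beq P R) = true := by
    decide +kernel
  have h1 := List.all_eq_true.1 (List.all_eq_true.1 h P hP) Q hQ
  rw [Bool.or_eq_true, Bool.not_eq_true'] at h1
  rcases h1 with h1 | h1
  · exact absurd (by rw [pr_one, pr_one, hPQ]) (pr_ne (okl1 (pV hP)) (okl1 (pW hQ)) h1)
  · obtain ⟨R, hR, h2⟩ := List.any_eq_true.1 h1
    rw [Nat.eq_of_beq_eq_true h2]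
    exact ⟨R, hR, rfl⟩

theorem V0_mem {P : ℕ} (h : P ∈ V0L) : P ∈ VL ∧ P ∈ WL := by
  have h1 : (V0L.all fun P => (VL.any fun R => Nat.beq P R) && WL.any fun R => Nat.beq P R) = true := by
    decide +kernel
  have h2 := List.all_eq_true.1 h1 P h
  rw [Bool.and_eq_true] at h2
  obtain ⟨R, hR, h3⟩ := List.any_eq_true.1 h2.1
  obtain ⟨T, hT, h4⟩ := List.any_eq_true.1 h2.2
  constructor
  · rw [Nat.eq_of_beq_eq_true h3]; exact hR
  · rw [Nat.eq_of_beq_eq_true h4]; exact hT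

theorem cardVW : Nat.card (V ⊓ W : Subgroup (Equiv.Perm GolayPt)) = 4 := by
  have h0 : ∀ l ∈ V0L.map fun P => [P], okl l = true := by
    intro l hl
    obtain ⟨P, hP, rfl⟩ := List.mem_map.1 hl
    exact okl1 (pV (V0_mem hP).1)
  have h1 := card_of_list (L := V0L.map fun P => [P]) h0 (by decide +kernel)
    ((V ⊓ W : Subgroup (Equiv.Perm GolayPt)) : Set (Equiv.Perm GolayPt)) (by
    intro g
    rw [SetLike.mem_coe, Subgroup.mem_inf]
    constructor
    · rintro ⟨hV, hW⟩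
      obtain ⟨P, hP, rfl⟩ := mem_V0 hV hW
      exact ⟨[P], List.mem_map.2 ⟨P, hP, rfl⟩, pr_one P⟩
    · rintro ⟨l, hl, rfl⟩
      obtain ⟨P, hP, rfl⟩ := List.mem_map.1 hl
      rw [pr_one]
      exact ⟨⟨P, (V0_mem hP).1, rfl⟩, ⟨P, (V0_mem hP).2, rfl⟩⟩)
  exact h1

theorem zV : z ∈ V := ⟨zP, by decide +kernel, rfl⟩

theorem zW : z ∈ W := ⟨zP, by decide +kernel, rfl⟩

theorem z1 : z ≠ 1 := by
  have h := pr_ne (l := [zP]) (m := []) (by decide +kernel) rfl (by decide +kernel)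
  rwa [pr_one, pr_nil] at h

theorem cN : ∀ v ∈ V, ∀ w ∈ W, c ≠ v * w := by
  rintro _ ⟨P, hP, rfl⟩ _ ⟨Q, hQ, rfl⟩
  have h : (VL.all fun P => WL.all fun Q => !weq [cP] [P, Q]) = true := by decide +kernel
  have h1 := List.all_eq_true.1 (List.all_eq_true.1 h P hP) Q hQ
  rw [Bool.not_eq_true'] at h1
  have h2 := pr_ne (okl1 permc) (okl2 (pV hP) (pW hQ)) h1
  rwa [pr_one, pr_two] at h2

theorem comm_mem : ∀ v ∈ V, ∀ w ∈ W, v * w = w * v → v ∈ W ∨ w ∈ V := by
  rintro _ ⟨P, hP, rfl⟩ _ ⟨Q, hQ, rfl⟩ hc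
  have h : (VL.all fun P => WL.all fun Q => !weq [P, Q] [Q, P] ||
      ((V0L.any fun R => Nat.beq P R) || V0L.any fun R => Nat.beq Q R)) = true := by decide +kernel
  have h1 := List.all_eq_true.1 (List.all_eq_true.1 h P hP) Q hQ
  rw [Bool.or_eq_true, Bool.not_eq_true', Bool.or_eq_true] at h1
  rcases h1 with h1 | h1 | h1
  · exact absurd (by rw [pr_two, pr_two, hc]) (pr_ne (okl2 (pV hP) (pW hQ)) (okl2 (pW hQ) (pV hP)) h1)
  · obtain ⟨R, hR, h2⟩ := List.any_eq_true.1 h1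
    rw [Nat.eq_of_beq_eq_true h2]
    exact Or.inl ⟨R, (V0_mem hR).2, rfl⟩
  · obtain ⟨R, hR, h2⟩ := List.any_eq_true.1 h1
    rw [Nat.eq_of_beq_eq_true h2]
    exact Or.inr ⟨R, (V0_mem hR).1, rfl⟩

theorem cVW : ∀ v ∈ V, v ∉ W → ∀ w ∈ W, v * w = w * v → w ∈ V :=
  fun v hv hvW w hw h => (comm_mem v hv w hw h).resolve_left hvW

theorem cWV : ∀ w ∈ W, w ∉ V → ∀ v ∈ V, v * w = w * v → v ∈ W :=
  fun w hw hwV v hv h => (comm_mem v hv w hw h).resolve_right hwV

/-! ### The centre -/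

theorem cen : ∀ y ∈ S, (∀ s ∈ S, s * y = y * s) → y = 1 ∨ y = z := by
  have key : ∀ l : List ℕ, okl l = true →
      (weq l [] || (weq l [zP] || (!weq (cP :: l) (l ++ [cP]) || ((VL.any fun P => !weq (P :: l) (l ++ [P])) ||
        WL.any fun P => !weq (P :: l) (l ++ [P]))))) = true →
      (∀ s ∈ S, s * pr l = pr l * s) → pr l = 1 ∨ pr l = z := by
    intro l hl h hc
    have hap : ∀ P, isPerm P = true → okl (P :: l) = true ∧ okl (l ++ [P]) = true := by
      intro P hP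
      unfold okl at hl ⊢
      rw [List.all_cons, List.all_append, List.all_cons, hl, hP]
      exact ⟨rfl, rfl⟩
    rw [Bool.or_eq_true, Bool.or_eq_true, Bool.or_eq_true, Bool.or_eq_true, Bool.not_eq_true'] at h
    rcases h with h | h | h | h | h
    · exact Or.inl (pr_of_weq hl rfl h)
    · right
      have := pr_of_weq hl (okl1 permz) h
      rwa [pr_one] at this
    · have h1 := pr_ne (hap _ permc).1 (hap _ permc).2 h
      rw [pr_cons, pr_append, pr_one] at h1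
      exact absurd (hc _ c_mem) h1
    · obtain ⟨P, hP, h2⟩ := List.any_eq_true.1 h
      rw [Bool.not_eq_true'] at h2
      have h1 := pr_ne (hap _ (pV hP)).1 (hap _ (pV hP)).2 h2
      rw [pr_cons, pr_append, pr_one] at h1
      exact absurd (hc _ (V_le ⟨P, hP, rfl⟩)) h1
    · obtain ⟨P, hP, h2⟩ := List.any_eq_true.1 h
      rw [Bool.not_eq_true'] at h2
      have h1 := pr_ne (hap _ (pW hP)).1 (hap _ (pW hP)).2 h2
      rw [pr_cons, pr_append, pr_one] at h1
      exact absurd (hc _ (W_le ⟨P, hP, rfl⟩)) h1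
  have k1 : (VL.all fun P => WL.all fun Q => (fun l => (weq l [] || (weq l [zP] ||
      (!weq (cP :: l) (l ++ [cP]) || ((VL.any fun P => !weq (P :: l) (l ++ [P])) ||
        WL.any fun P => !weq (P :: l) (l ++ [P])))))) [P, Q]) = true := by decide +kernel
  have k2 : (VL.all fun P => WL.all fun Q => (fun l => (weq l [] || (weq l [zP] ||
      (!weq (cP :: l) (l ++ [cP]) || ((VL.any fun P => !weq (P :: l) (l ++ [P])) ||
        WL.any fun P => !weq (P :: l) (l ++ [P])))))) [P, Q, cP]) = true := by decide +kernel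
  rintro _ ⟨_, ⟨P, hP, rfl⟩, _, ⟨Q, hQ, rfl⟩, rfl | rfl⟩ hc
  · have := key [P, Q] (okl2 (pV hP) (pW hQ)) (List.all_eq_true.1 (List.all_eq_true.1 k1 P hP) Q hQ)
    rw [pr_two] at this
    exact this hc
  · have := key [P, Q, cP] (okl3 (pV hP) (pW hQ) permc)
      (List.all_eq_true.1 (List.all_eq_true.1 k2 P hP) Q hQ)
    rw [pr_three] at this
    exact this hc

/-! ### The action of `c` -/

theorem c0 : ∃ x ∈ V, x ∈ W ∧ c * x ≠ x * c := by
  have h : (V0L.any fun P => !weq [cP, P] [P, cP]) = true := by decide +kernel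
  obtain ⟨P, hP, h1⟩ := List.any_eq_true.1 h
  rw [Bool.not_eq_true'] at h1
  have h2 := pr_ne (okl2 permc (pV (V0_mem hP).1)) (okl2 (pV (V0_mem hP).1) permc) h1
  rw [pr_two, pr_two] at h2
  exact ⟨pm P, ⟨P, (V0_mem hP).1, rfl⟩, ⟨P, (V0_mem hP).2, rfl⟩, h2⟩

/-- `c x ≠ r x c` for all `r ∈ V ∩ W` -/
theorem c_layer (L : List ℕ) (hL : ∀ P ∈ L, isPerm P = true)
    (h : (L.any fun P => V0L.all fun R => !weq [cP, P] [R, P, cP]) = true) :
    ∃ P ∈ L, ∀ R ∈ V0L, c * pm P * c⁻¹ * (pm P)⁻¹ ≠ pm R := by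
  obtain ⟨P, hP, h1⟩ := List.any_eq_true.1 h
  refine ⟨P, hP, fun R hR e => ?_⟩
  have h2 := List.all_eq_true.1 h1 R hR
  rw [Bool.not_eq_true'] at h2
  have h3 := pr_ne (okl2 permc (hL P hP)) (okl3 (pV (V0_mem hR).1) (hL P hP) permc) h2
  rw [pr_two, pr_three] at h3
  apply h3
  rw [← e]
  show pm cP * pm P = c * pm P * c⁻¹ * (pm P)⁻¹ * pm P * pm cP
  unfold c
  group

theorem cV' : ∃ v ∈ V, c * v * c⁻¹ * v⁻¹ ∉ W := by
  obtain ⟨P, hP, h⟩ := c_layer VL (fun P hP => pV hP) (by decide +kernel)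
  have hPV : pm P ∈ V := ⟨P, hP, rfl⟩
  refine ⟨pm P, hPV, fun hW => ?_⟩
  obtain ⟨R, hR, e⟩ := mem_V0 (mul_mem (cV _ hPV) (inv_mem hPV)) hW
  exact h R hR e.symm

theorem cW' : ∃ w ∈ W, c * w * c⁻¹ * w⁻¹ ∉ V := by
  obtain ⟨P, hP, h⟩ := c_layer WL (fun P hP => pW hP) (by decide +kernel)
  have hPV : pm P ∈ W := ⟨P, hP, rfl⟩
  refine ⟨pm P, hPV, fun hV => ?_⟩
  obtain ⟨R, hR, e⟩ := mem_V0 hV (mul_mem (cW _ hPV) (inv_mem hPV))
  exact h R hR e.symm

/-- `z` is a commutator of elements of `V`, `W` -/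
theorem z_comm : ∃ v ∈ V, ∃ w ∈ W, v * w * v⁻¹ * w⁻¹ = z := by
  have h : (VL.any fun P => WL.any fun Q => weq [P, Q] [zP, Q, P]) = true := by decide +kernel
  obtain ⟨P, hP, h1⟩ := List.any_eq_true.1 h
  obtain ⟨Q, hQ, h2⟩ := List.any_eq_true.1 h1
  have h3 := pr_of_weq (okl2 (pV hP) (pW hQ)) (okl3 permz (pW hQ) (pV hP)) h2
  rw [pr_two, pr_three] at h3
  refine ⟨pm P, ⟨P, hP, rfl⟩, pm Q, ⟨Q, hQ, rfl⟩, ?_⟩
  rw [h3]
  show pm zP * pm Q * pm P * (pm P)⁻¹ * (pm Q)⁻¹ = pm zP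
  group

/-- `z` is central in `S` -/
theorem z_central : ∀ s ∈ S, s * z = z * s := by
  have h1 : (VL.all fun P => weq [P, zP] [zP, P]) = true := by decide +kernel
  have h2 : (WL.all fun P => weq [P, zP] [zP, P]) = true := by decide +kernel
  have h3 : weq [cP, zP] [zP, cP] = true := by decide +kernel
  have hv : ∀ v ∈ V, v * z = z * v := by
    rintro _ ⟨P, hP, rfl⟩
    have := pr_of_weq (okl2 (pV hP) permz) (okl2 permz (pV hP)) (List.all_eq_true.1 h1 P hP)
    rwa [pr_two, pr_two] at this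
  have hw : ∀ v ∈ W, v * z = z * v := by
    rintro _ ⟨P, hP, rfl⟩
    have := pr_of_weq (okl2 (pW hP) permz) (okl2 permz (pW hP)) (List.all_eq_true.1 h2 P hP)
    rwa [pr_two, pr_two] at this
  have hc : c * z = z * c := by
    have := pr_of_weq (okl2 permc permz) (okl2 permz permc) h3
    rwa [pr_two, pr_two] at this
  rintro _ ⟨v, hv', w, hw', rfl | rfl⟩
  · rw [mul_assoc, hw w hw', ← mul_assoc, hv v hv', mul_assoc]
  · rw [mul_assoc, hc, ← mul_assoc, mul_assoc v, hw w hw', ← mul_assoc, hv v hv', mul_assoc, mul_assoc,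
      mul_assoc]

/-! ### `V` and `W` are normal in `S` -/

theorem S_V : ∀ s ∈ S, ∀ x ∈ V, s * x * s⁻¹ ∈ V := by
  rintro _ ⟨v, hv, w, hw, rfl | rfl⟩ x hx
  · have := mul_mem (mul_mem hv (WV w hw x hx)) (inv_mem hv)
    have e : v * w * x * (v * w)⁻¹ = v * (w * x * w⁻¹) * v⁻¹ := by group
    rwa [e]
  · have := mul_mem (mul_mem hv (WV w hw _ (cV x hx))) (inv_mem hv)
    have e : v * w * c * x * (v * w * c)⁻¹ = v * (w * (c * x * c⁻¹) * w⁻¹) * v⁻¹ := by group
    rwa [e]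

theorem S_W : ∀ s ∈ S, ∀ x ∈ W, s * x * s⁻¹ ∈ W := by
  rintro _ ⟨v, hv, w, hw, rfl | rfl⟩ x hx
  · have := VW v hv _ (mul_mem (mul_mem hw hx) (inv_mem hw))
    have e : v * w * x * (v * w)⁻¹ = v * (w * x * w⁻¹) * v⁻¹ := by group
    rwa [e]
  · have := VW v hv _ (mul_mem (mul_mem hw (cW x hx)) (inv_mem hw))
    have e : v * w * c * x * (v * w * c)⁻¹ = v * (w * (c * x * c⁻¹) * w⁻¹) * v⁻¹ := by group
    rwa [e]

end Cfsg.Agent.KFacts.MM.Int

end

-- merged: Cfsg.Agent.KFacts.MM.El16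
section

/-!
# `V` and `W` are the only elementary abelian subgroups of `S` of order at least 16
-/

set_option autoImplicit false

namespace Cfsg.Agent.KFacts.MM.El16

open Cfsg El Data Cfsg.Agent.KFacts.MM.Sub Cfsg.Agent.KFacts.MM.Int
open Cfsg.Agent.SporadicA.GolayBase
open Cfsg.Agent.SporadicA.GolayPerm
open Cfsg.Agent.OddHalf.MM (Nrm Cen El)

/-- the subgroup `VW` -/
noncomputable def R : Subgroup (Equiv.Perm GolayPt) :=
  SS (c := 1) (one_mul 1) WV (fun x hx => by rwa [one_mul, inv_one, mul_one])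
    (fun x hx => by rwa [one_mul, inv_one, mul_one])

theorem mem_R {g : Equiv.Perm GolayPt} : g ∈ R ↔ ∃ v ∈ V, ∃ w ∈ W, g = v * w := by
  constructor
  · rintro ⟨v, hv, w, hw, rfl | rfl⟩
    · exact ⟨v, hv, w, hw, rfl⟩
    · exact ⟨v, hv, w, hw, by rw [mul_one]⟩
  · rintro ⟨v, hv, w, hw, rfl⟩
    exact ⟨v, hv, w, hw, Or.inl rfl⟩

theorem R_le : R ≤ S := by
  intro g hg
  obtain ⟨v, hv, w, hw, rfl⟩ := mem_R.1 hg
  exact ⟨v, hv, w, hw, Or.inl rfl⟩

theorem c_inv : c⁻¹ = c := inv_eq_of_mul_eq_one_left cc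

theorem cR : ∀ x ∈ R, c * x * c⁻¹ ∈ R := by
  intro x hx
  obtain ⟨v, hv, w, hw, rfl⟩ := mem_R.1 hx
  exact mem_R.2 ⟨c * v * c⁻¹, cV v hv, c * w * c⁻¹, cW w hw, by group⟩

/-- the form of the elements outside `R` -/
theorem out_R {s : Equiv.Perm GolayPt} (hs : s ∈ S) (hR : s ∉ R) :
    ∃ v ∈ V, ∃ w ∈ W, s = v * w * c := by
  obtain ⟨v, hv, w, hw, h | h⟩ := hs
  · exact absurd (mem_R.2 ⟨v, hv, w, hw, h⟩) hR
  · exact ⟨v, hv, w, hw, h⟩

theorem out_mul {s t : Equiv.Perm GolayPt} (hs : s ∈ S) (hR : s ∉ R) (ht : t ∈ S) (hR' : t ∉ R) :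
    s⁻¹ * t ∈ R := by
  obtain ⟨v, hv, w, hw, rfl⟩ := out_R hs hR
  obtain ⟨v', hv', w', hw', rfl⟩ := out_R ht hR'
  have h1 : (v * w)⁻¹ * (v' * w') ∈ R :=
    R.mul_mem (R.inv_mem (mem_R.2 ⟨v, hv, w, hw, rfl⟩)) (mem_R.2 ⟨v', hv', w', hw', rfl⟩)
  have h2 := cR _ h1
  have e : (v * w * c)⁻¹ * (v' * w' * c) = c⁻¹ * ((v * w)⁻¹ * (v' * w')) * c := by group
  rw [e, c_inv]
  rw [c_inv] at h2
  exact h2

/-- the square of an element of `R` lies in `V` -/
theorem sq_R {r : Equiv.Perm GolayPt} (hr : r ∈ R) : r * r ∈ V := by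
  obtain ⟨v, hv, w, hw, rfl⟩ := mem_R.1 hr
  have h := mul_mem hv (WV w hw v hv)
  have e : v * w * (v * w) = v * (w * v * w⁻¹) * (w * w) := by group
  rw [e, elW w hw, mul_one]
  exact h

/-- the square of an element of `S` lies in `R` -/
theorem sq_S {s : Equiv.Perm GolayPt} (hs : s ∈ S) : s * s ∈ R := by
  by_cases h : s ∈ R
  · exact R.mul_mem h h
  · have hi : s⁻¹ ∉ R := fun h' => h (by simpa using R.inv_mem h')
    have := out_mul (S.inv_mem hs) hi hs h
    rwa [inv_inv] at this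

theorem isPGroup : IsPGroup 2 S := by
  intro g
  refine ⟨3, ?_⟩
  apply Subtype.ext
  have h1 := sq_S g.2
  have h2 := elV _ (sq_R h1)
  have h3 : ((g : Equiv.Perm GolayPt)) ^ (2 ^ 3) = (g : Equiv.Perm GolayPt) * g * (g * g) * (g * g * (g * g)) := by
    norm_num [pow_succ, mul_assoc]
  show ((g : Equiv.Perm GolayPt)) ^ (2 ^ 3) = 1
  rw [h3, h2]

/-- an involution of `R` lies in `V` or `W` -/
theorem invol_R {r : Equiv.Perm GolayPt} (hr : r ∈ R) (h2 : r * r = 1) : r ∈ V ∨ r ∈ W := by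
  obtain ⟨v, hv, w, hw, rfl⟩ := mem_R.1 hr
  have hc : v * w = w * v := by
    have h3 : v * w = (v * w)⁻¹ := eq_inv_of_mul_eq_one_left h2
    rw [h3, mul_inv_rev, inv_eq_of_mul_eq_one_left (elV v hv), inv_eq_of_mul_eq_one_left (elW w hw)]
  rcases comm_mem v hv w hw hc with h | h
  · exact Or.inr (mul_mem h hw)
  · exact Or.inl (mul_mem hv h)

/-- an abelian subgroup of `R` of exponent 2 lies in `V` or in `W` -/
theorem le_or_le {F : Subgroup (Equiv.Perm GolayPt)} (hF : F ≤ R) (hE : El F) : F ≤ V ∨ F ≤ W := by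
  by_contra hcon
  rw [not_or] at hcon
  obtain ⟨h1, h2⟩ := hcon
  rw [SetLike.not_le_iff_exists] at h1 h2
  obtain ⟨a, ha, haV⟩ := h1
  obtain ⟨b, hb, hbW⟩ := h2
  have haW := (invol_R (hF ha) (hE a ha)).resolve_left haV
  have hbV := (invol_R (hF hb) (hE b hb)).resolve_right hbW
  have hc : b * a = a * b := by
    have h3 := hE _ (mul_mem hb ha)
    have h4 : b * a = (b * a)⁻¹ := eq_inv_of_mul_eq_one_left h3
    rw [h4, mul_inv_rev, inv_eq_of_mul_eq_one_left (hE a ha), inv_eq_of_mul_eq_one_left (hE b hb)]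
  rcases comm_mem b hbV a haW hc with h | h
  · exact hbW h
  · exact haV h

/-- the elements of a list commuting with a word -/
theorem card_le_four (L : List ℕ) (hL : ∀ P ∈ L, isPerm P = true) (l : List ℕ) (hl : okl l = true)
    (h : Nat.ble (L.filter fun P => weq (l ++ [P]) (P :: l)).length 4 = true)
    (F : Subgroup (Equiv.Perm GolayPt)) (hF : ∀ x ∈ F, (∃ P ∈ L, pm P = x) ∧ pr l * x = x * pr l) :
    Nat.card F ≤ 4 := by
  classical
  have h1 : (F : Set (Equiv.Perm GolayPt)) ⊆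
      (((L.filter fun P => weq (l ++ [P]) (P :: l)).map pm).toFinset : Set (Equiv.Perm GolayPt)) := by
    intro x hx
    obtain ⟨⟨P, hP, rfl⟩, hc⟩ := hF x hx
    rw [List.coe_toFinset]
    refine List.mem_map.2 ⟨P, List.mem_filter.2 ⟨hP, ?_⟩, rfl⟩
    rw [weq_iff]
    · rw [pr_append, pr_one, pr_cons, hc]
    · unfold okl at hl ⊢
      rw [List.all_append, hl, List.all_cons, hL P hP]; rfl
    · unfold okl at hl ⊢
      rw [List.all_cons, hl, hL P hP]; rfl
  have h2 := Set.ncard_le_ncard h1 (Set.toFinite _)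
  rw [Set.ncard_coe_finset] at h2
  have h3 := h2.trans (List.toFinset_card_le _)
  rw [List.length_map] at h3
  exact h3.trans (Nat.le_of_ble_eq_true h)

theorem four_V {s : Equiv.Perm GolayPt} (hs : s ∈ S) (hR : s ∉ R) {F : Subgroup (Equiv.Perm GolayPt)}
    (hF : F ≤ V) (hc : ∀ x ∈ F, s * x = x * s) : Nat.card F ≤ 4 := by
  obtain ⟨v, hv, _, ⟨Q, hQ, rfl⟩, rfl⟩ := out_R hs hR
  have k : (WL.all fun Q => Nat.ble (VL.filter fun P => weq ([Q, cP] ++ [P]) (P :: [Q, cP])).length 4) = true := by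
    decide +kernel
  refine card_le_four VL (fun P hP => pV hP) [Q, cP] (okl2 (pW hQ) permc) (List.all_eq_true.1 k Q hQ) F ?_
  intro x hx
  refine ⟨hF hx, ?_⟩
  have h1 := hc x hx
  have h2 : v * x = x * v := by
    have h3 := elV _ (mul_mem hv (hF hx))
    have h4 : v * x = (v * x)⁻¹ := eq_inv_of_mul_eq_one_left h3
    rw [h4, mul_inv_rev, inv_eq_of_mul_eq_one_left (elV v hv),
      inv_eq_of_mul_eq_one_left (elV x (hF hx))]
  rw [pr_two]
  show pm Q * c * x = x * (pm Q * c)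
  apply mul_left_cancel (a := v)
  calc v * (pm Q * c * x) = v * pm Q * c * x := by group
    _ = x * (v * pm Q * c) := h1
    _ = x * v * (pm Q * c) := by group
    _ = v * (x * (pm Q * c)) := by rw [← h2]; group

theorem four_W {s : Equiv.Perm GolayPt} (hs : s ∈ S) (hR : s ∉ R) {F : Subgroup (Equiv.Perm GolayPt)}
    (hF : F ≤ W) (hc : ∀ x ∈ F, s * x = x * s) : Nat.card F ≤ 4 := by
  obtain ⟨_, ⟨Q, hQ, rfl⟩, w, hw, rfl⟩ := out_R hs hR
  have k : (VL.all fun Q => Nat.ble (WL.filter fun P => weq ([Q, cP] ++ [P]) (P :: [Q, cP])).length 4) = true := by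
    decide +kernel
  refine card_le_four WL (fun P hP => pW hP) [Q, cP] (okl2 (pV hQ) permc) (List.all_eq_true.1 k Q hQ) F ?_
  intro x hx
  refine ⟨hF hx, ?_⟩
  have hw' := VW (pm Q) ⟨Q, hQ, rfl⟩ w hw
  have h1 : pm Q * w * (pm Q)⁻¹ * (pm Q * c) * x = x * (pm Q * w * (pm Q)⁻¹ * (pm Q * c)) := by
    have h0 := hc x hx
    calc _ = pm Q * w * c * x := by group
      _ = x * (pm Q * w * c) := h0
      _ = _ := by group
  have h2 : pm Q * w * (pm Q)⁻¹ * x = x * (pm Q * w * (pm Q)⁻¹) := by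
    have h3 := elW _ (mul_mem hw' (hF hx))
    have h4 : pm Q * w * (pm Q)⁻¹ * x = (pm Q * w * (pm Q)⁻¹ * x)⁻¹ := eq_inv_of_mul_eq_one_left h3
    rw [h4, mul_inv_rev, inv_eq_of_mul_eq_one_left (elW _ hw'),
      inv_eq_of_mul_eq_one_left (elW x (hF hx))]
  rw [pr_two]
  show pm Q * c * x = x * (pm Q * c)
  apply mul_left_cancel (a := pm Q * w * (pm Q)⁻¹)
  calc pm Q * w * (pm Q)⁻¹ * (pm Q * c * x) = pm Q * w * (pm Q)⁻¹ * (pm Q * c) * x := by group
    _ = x * (pm Q * w * (pm Q)⁻¹ * (pm Q * c)) := h1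
    _ = x * (pm Q * w * (pm Q)⁻¹) * (pm Q * c) := by group
    _ = pm Q * w * (pm Q)⁻¹ * (x * (pm Q * c)) := by rw [← h2]; group

theorem comm_of_El {G : Type*} [Group G] {E : Subgroup G} (hE : El E) {a b : G} (ha : a ∈ E)
    (hb : b ∈ E) : a * b = b * a := by
  have h3 := hE _ (mul_mem ha hb)
  have h4 : a * b = (a * b)⁻¹ := eq_inv_of_mul_eq_one_left h3
  rw [h4, mul_inv_rev, inv_eq_of_mul_eq_one_left (hE a ha), inv_eq_of_mul_eq_one_left (hE b hb)]

theorem el16 (E : Subgroup (Equiv.Perm GolayPt)) (hES : E ≤ S) (hE : El E) (h16 : 16 ≤ Nat.card E) :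
    E = V ∨ E = W := by
  by_cases hR : E ≤ R
  · rcases le_or_le hR hE with h | h
    · exact Or.inl (Subgroup.eq_of_le_of_card_ge h (by rw [cardV]; exact h16))
    · exact Or.inr (Subgroup.eq_of_le_of_card_ge h (by rw [cardW]; exact h16))
  · exfalso
    rw [SetLike.not_le_iff_exists] at hR
    obtain ⟨s, hs, hsR⟩ := hR
    set F := E ⊓ R with hF
    have hsF : ∀ x ∈ F, s * x = x * s := fun x hx => comm_of_El hE hs hx.1
    have h4 : Nat.card F ≤ 4 := by
      rcases le_or_le (F := F) inf_le_right (fun x hx => hE x hx.1) with h | h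
      · exact four_V (hES hs) hsR h hsF
      · exact four_W (hES hs) hsR h hsF
    have hsub : (E : Set (Equiv.Perm GolayPt)) ⊆
        (F : Set (Equiv.Perm GolayPt)) ∪ (fun x => s * x) '' (F : Set (Equiv.Perm GolayPt)) := by
      intro x hx
      by_cases hxR : x ∈ R
      · exact Or.inl ⟨hx, hxR⟩
      · right
        refine ⟨s⁻¹ * x, ⟨E.mul_mem (E.inv_mem hs) hx, out_mul (hES hs) hsR (hES hx) hxR⟩, ?_⟩
        show s * (s⁻¹ * x) = x
        group
    have h5 := Set.ncard_le_ncard hsub (Set.toFinite _)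
    have h6 := (h5.trans (Set.ncard_union_le _ _))
    have h7 := Set.ncard_image_le (f := fun x => s * x) (Set.toFinite (F : Set (Equiv.Perm GolayPt)))
    have e1 : (E : Set (Equiv.Perm GolayPt)).ncard = Nat.card E := rfl
    have e2 : (F : Set (Equiv.Perm GolayPt)).ncard = Nat.card F := rfl
    rw [e1, e2] at h6
    rw [e2] at h7
    omega

end Cfsg.Agent.KFacts.MM.El16

end

-- merged: Cfsg.Agent.KFacts.MM.Cent
section

/-!
# `C(V) = V`, `C(W) = W`
-/

set_option autoImplicit false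

namespace Cfsg.Agent.KFacts.MM.Cent

open Cfsg Cfsg.Agent.KFacts.MM.El Cfsg.Agent.KFacts.MM.Data Cfsg.Agent.KFacts.MM.Sub
open Cfsg.Agent.KFacts.MM.Int Cfsg.Agent.KFacts.MM.El16
open Cfsg.Agent.SporadicA.GolayBase Cfsg.Agent.SporadicA.GolayPerm Cfsg.Agent.SporadicA.M24Frames
open Cfsg.Agent.OddHalf.MM (Nrm Cen El)

/-! ### Frames -/

theorem eq_of_val {a : Fin 7 → GolayPt} (ha : Adm a) {g h : Equiv.Perm GolayPt} (hg : g ∈ M24)
    (hh : h ∈ M24) (H : ∀ i, val g (idx (a i)) = val h (idx (a i))) : g = h := by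
  apply eq_of_eq_on ha hg hh
  intro i
  have h1 := H i
  unfold val at h1
  rw [pt_idx] at h1
  exact idx_injective h1

/-- the octad of the second and fourth tetrads -/
def O1 : Finset GolayPt := {some 4, some 13, some 16, some 22, some 6, some 7, some 19, some 21}

theorem O1_mem : O1 ∈ octads := by
  rw [mem_octads_iff]
  decide +kernel

/-- a frame outside the octad of `V` -/
def frV : Fin 7 → GolayPt := ![some 4, some 13, some 16, some 22, some 6, some 7, some 9]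

/-- a frame -/
def frW : Fin 7 → GolayPt := ![some 4, some 13, some 16, some 22, some 6, some 7, none]

theorem adm_frV : Adm frV := ⟨by decide, O1, O1_mem, by decide, by decide⟩

theorem adm_frW : Adm frW := ⟨by decide, O1, O1_mem, by decide, by decide⟩

theorem forall_frV {p : ℕ → Prop} (h : ∀ i ∈ [4, 13, 16, 22, 6, 7, 9], p i) (i : Fin 7) :
    p (idx (frV i)) := by
  fin_cases i
  · exact h 4 (by decide)
  · exact h 13 (by decide)
  · exact h 16 (by decide)
  · exact h 22 (by decide)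
  · exact h 6 (by decide)
  · exact h 7 (by decide)
  · exact h 9 (by decide)

theorem forall_frW {p : ℕ → Prop} (h : ∀ i ∈ [4, 13, 16, 22, 6, 7, 23], p i) (i : Fin 7) :
    p (idx (frW i)) := by
  fin_cases i
  · exact h 4 (by decide)
  · exact h 13 (by decide)
  · exact h 16 (by decide)
  · exact h 22 (by decide)
  · exact h 6 (by decide)
  · exact h 7 (by decide)
  · exact h 23 (by decide)

theorem forall_base7 {p : ℕ → Prop} (h : ∀ i ∈ [23, 0, 1, 2, 3, 5, 4], p i) (i : Fin 7) :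
    p (idx (base7 i)) := by
  fin_cases i
  · exact h 23 (by decide)
  · exact h 0 (by decide)
  · exact h 1 (by decide)
  · exact h 2 (by decide)
  · exact h 3 (by decide)
  · exact h 5 (by decide)
  · exact h 4 (by decide)

/-! ### Membership in the Mathieu groups -/

/-- Boolean test for membership in `M22` -/
def ok22 (P : ℕ) : Bool :=
  isPerm P && (isAut P && (Nat.beq (papp P 23) 23 && Nat.beq (papp P 0) 0))

theorem mem_of_ok22 {P : ℕ} (h : ok22 P = true) : isPerm P = true ∧ pm P ∈ Spor.M22 := by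
  unfold ok22 at h
  rw [Bool.and_eq_true, Bool.and_eq_true, Bool.and_eq_true] at h
  obtain ⟨h1, h2, h3, h4⟩ := h
  refine ⟨h1, (SporadicA.MathieuRecog.mem_M22_iff _).2 ⟨pm_mem_M24 h1 h2, ?_, ?_⟩⟩
  · have h5 := val_pm h1 (i := 23) (by norm_num)
    rw [Nat.eq_of_beq_eq_true h3] at h5
    have h6 := pt_val (pm P) 23
    rw [h5] at h6
    exact h6.symm
  · have h5 := val_pm h1 (i := 0) (by norm_num)
    rw [Nat.eq_of_beq_eq_true h4] at h5
    have h6 := pt_val (pm P) 0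
    rw [h5] at h6
    exact h6.symm

theorem V_le22 : V ≤ Spor.M22 := by
  rintro _ ⟨P, hP, rfl⟩
  have h : VL.all ok22 = true := by decide +kernel
  exact (mem_of_ok22 (List.all_eq_true.1 h P hP)).2

theorem W_le22 : W ≤ Spor.M22 := by
  rintro _ ⟨P, hP, rfl⟩
  have h : WL.all ok22 = true := by decide +kernel
  exact (mem_of_ok22 (List.all_eq_true.1 h P hP)).2

theorem c_mem22 : c ∈ Spor.M22 := (mem_of_ok22 (P := cP) (by decide +kernel)).2

theorem S_le22 : S ≤ Spor.M22 := by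
  rintro _ ⟨v, hv, w, hw, rfl | rfl⟩
  · exact mul_mem (V_le22 hv) (W_le22 hw)
  · exact mul_mem (mul_mem (V_le22 hv) (W_le22 hw)) c_mem22

theorem M22_le24 {g : Equiv.Perm GolayPt} (h : g ∈ Spor.M22) : g ∈ M24 :=
  ((SporadicA.MathieuRecog.mem_M22_iff _).1 h).1

theorem M23_le24 {g : Equiv.Perm GolayPt} (h : g ∈ Spor.M23) : g ∈ M24 :=
  ((SporadicA.MathieuRecog.mem_M23_iff _).1 h).1

theorem val23 {g : Equiv.Perm GolayPt} (h : g ∈ Spor.M23) : val g 23 = 23 := by
  have h1 := ((SporadicA.MathieuRecog.mem_M23_iff _).1 h).2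
  show idx (g none) = 23
  rw [h1]
  rfl

theorem M22_le23 {g : Equiv.Perm GolayPt} (h : g ∈ Spor.M22) : g ∈ Spor.M23 :=
  SporadicA.MathieuRecog.M22_le h

theorem val0 {g : Equiv.Perm GolayPt} (h : g ∈ Spor.M22) : val g 0 = 0 := by
  have h1 := ((SporadicA.MathieuRecog.mem_M22_iff _).1 h).2.2
  show idx (g (some 0)) = 0
  rw [h1]
  rfl

/-! ### Centralisers -/

theorem val_comm {k : Equiv.Perm GolayPt} {P : ℕ} (hP : isPerm P = true) (h : k * pm P = pm P * k)
    {i : ℕ} (hi : i < 24) : val k (papp P i) = papp P (val k i) := by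
  rw [← val_pm hP hi, ← val_mul, h, val_mul, val_pm hP (val_lt _ _)]

/-- `C(V) = V` in `M24` -/
theorem CV {k : Equiv.Perm GolayPt} (hk : k ∈ M24) (h : Cen k V) : k ∈ V := by
  have hc : ∀ P ∈ VL, ∀ i, i < 24 → val k (papp P i) = papp P (val k i) :=
    fun P hP i hi => val_comm (pV hP) (h _ ⟨P, hP, rfl⟩) hi
  have k1 : (pts.all fun q => (VL.any fun P => Nat.beq (papp P 4) q) ||
      VL.all fun P => Nat.beq (papp P q) q) = true := by decide +kernel
  have k2 : (VL.any fun P => !Nat.beq (papp P 4) 4) = true := by decide +kernel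
  have h1 := List.all_eq_true.1 k1 (val k 4) (mem_pts (val_lt _ _))
  rw [Bool.or_eq_true] at h1
  rcases h1 with h1 | h1
  · obtain ⟨P, hP, h2⟩ := List.any_eq_true.1 h1
    have h2 := Nat.eq_of_beq_eq_true h2
    have hPV : pm P ∈ V := ⟨P, hP, rfl⟩
    have k3 : ([4, 13, 16, 22, 6, 7, 9].all fun i => VL.any fun Q => Nat.beq (papp Q 4) i) = true := by
      decide +kernel
    have k4 : (VL.all fun P => VL.all fun Q => Nat.beq (papp Q (papp P 4)) (papp P (papp Q 4))) = true := by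
      decide +kernel
    have : k = pm P := by
      apply eq_of_val adm_frV hk (M22_le24 (V_le22 hPV))
      refine forall_frV (p := fun i => val k i = val (pm P) i) ?_
      intro i hi
      show val k i = val (pm P) i
      obtain ⟨Q, hQ, h3⟩ := List.any_eq_true.1 (List.all_eq_true.1 k3 i hi)
      rw [← Nat.eq_of_beq_eq_true h3, hc Q hQ 4 (by norm_num), ← h2,
        Nat.eq_of_beq_eq_true (List.all_eq_true.1 (List.all_eq_true.1 k4 P hP) Q hQ), val_pm (pV hP)]
      exact papp_lt (pV hQ) (by norm_num)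
    rw [this]
    exact hPV
  · exfalso
    obtain ⟨P, hP, h2⟩ := List.any_eq_true.1 k2
    rw [Bool.not_eq_true'] at h2
    have h3 := hc P hP 4 (by norm_num)
    rw [Nat.eq_of_beq_eq_true (List.all_eq_true.1 h1 P hP)] at h3
    have h4 := val_inj (papp_lt (pV hP) (by norm_num)) (by norm_num) h3
    rw [h4] at h2
    exact absurd h2 (by decide)

/-- `C(W) = W` in `M23` -/
theorem CW {k : Equiv.Perm GolayPt} (hk : k ∈ Spor.M23) (h : Cen k W) : k ∈ W := by
  have hc : ∀ P ∈ WL, ∀ i, i < 24 → val k (papp P i) = papp P (val k i) :=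
    fun P hP i hi => val_comm (pW hP) (h _ ⟨P, hP, rfl⟩) hi
  -- images with the same stabiliser
  have key : ∀ i, i < 24 → ∀ P ∈ WL, (papp P i = i ↔ papp P (val k i) = val k i) := by
    intro i hi P hP
    rw [← hc P hP i hi]
    constructor
    · intro h1; rw [h1]
    · intro h1
      exact val_inj (papp_lt (pW hP) hi) hi h1
  have k1 : (pts.all fun q => (WL.any fun P => (Nat.beq (papp P 4) 4 && !Nat.beq (papp P q) q) ||
      (!Nat.beq (papp P 4) 4 && Nat.beq (papp P q) q)) || (Nat.beq q 4 || (Nat.beq q 13 || (Nat.beq q 16 ||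
        Nat.beq q 22)))) = true := by decide +kernel
  have k2 : (pts.all fun q => (WL.any fun P => (Nat.beq (papp P 6) 6 && !Nat.beq (papp P q) q) ||
      (!Nat.beq (papp P 6) 6 && Nat.beq (papp P q) q)) || (Nat.beq q 6 || (Nat.beq q 7 || (Nat.beq q 19 ||
        Nat.beq q 21)))) = true := by decide +kernel
  have no : ∀ i, i < 24 → (WL.any fun P => (Nat.beq (papp P i) i && !Nat.beq (papp P (val k i)) (val k i)) ||
      (!Nat.beq (papp P i) i && Nat.beq (papp P (val k i)) (val k i))) = true → False := by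
    intro i hi h1
    obtain ⟨P, hP, h2⟩ := List.any_eq_true.1 h1
    rw [Bool.or_eq_true, Bool.and_eq_true, Bool.and_eq_true, Bool.not_eq_true', Bool.not_eq_true'] at h2
    rcases h2 with ⟨h2, h3⟩ | ⟨h2, h3⟩
    · have h4 := (key i hi P hP).1 (Nat.eq_of_beq_eq_true h2)
      rw [h4, Nat.beq_refl] at h3
      cases h3
    · have h4 := (key i hi P hP).2 (Nat.eq_of_beq_eq_true h3)
      rw [h4, Nat.beq_refl] at h2
      cases h2
  have h4 : val k 4 ∈ [4, 13, 16, 22] := by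
    have h1 := List.all_eq_true.1 k1 (val k 4) (mem_pts (val_lt _ _))
    rw [Bool.or_eq_true] at h1
    rcases h1 with h1 | h1
    · exact (no 4 (by norm_num) h1).elim
    · rw [Bool.or_eq_true, Bool.or_eq_true, Bool.or_eq_true] at h1
      simp only [List.mem_cons, List.not_mem_nil, or_false]
      rcases h1 with h1 | h1 | h1 | h1
      · exact Or.inl (Nat.eq_of_beq_eq_true h1)
      · exact Or.inr (Or.inl (Nat.eq_of_beq_eq_true h1))
      · exact Or.inr (Or.inr (Or.inl (Nat.eq_of_beq_eq_true h1)))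
      · exact Or.inr (Or.inr (Or.inr (Nat.eq_of_beq_eq_true h1)))
  have h6 : val k 6 ∈ [6, 7, 19, 21] := by
    have h1 := List.all_eq_true.1 k2 (val k 6) (mem_pts (val_lt _ _))
    rw [Bool.or_eq_true] at h1
    rcases h1 with h1 | h1
    · exact (no 6 (by norm_num) h1).elim
    · rw [Bool.or_eq_true, Bool.or_eq_true, Bool.or_eq_true] at h1
      simp only [List.mem_cons, List.not_mem_nil, or_false]
      rcases h1 with h1 | h1 | h1 | h1
      · exact Or.inl (Nat.eq_of_beq_eq_true h1)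
      · exact Or.inr (Or.inl (Nat.eq_of_beq_eq_true h1))
      · exact Or.inr (Or.inr (Or.inl (Nat.eq_of_beq_eq_true h1)))
      · exact Or.inr (Or.inr (Or.inr (Nat.eq_of_beq_eq_true h1)))
  have k3 : ([4, 13, 16, 22].all fun q => [6, 7, 19, 21].all fun r =>
      WL.any fun P => Nat.beq (papp P 4) q && Nat.beq (papp P 6) r) = true := by decide +kernel
  obtain ⟨P, hP, h7⟩ := List.any_eq_true.1 (List.all_eq_true.1 (List.all_eq_true.1 k3 _ h4) _ h6)
  rw [Bool.and_eq_true] at h7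
  have e4 := Nat.eq_of_beq_eq_true h7.1
  have e6 := Nat.eq_of_beq_eq_true h7.2
  have hPW : pm P ∈ W := ⟨P, hP, rfl⟩
  have k5 : ([4, 13, 16, 22, 6, 7].all fun i => WL.any fun Q => Nat.beq (papp Q 4) i ||
      Nat.beq (papp Q 6) i) = true := by decide +kernel
  have k6 : (WL.all fun P => WL.all fun Q => Nat.beq (papp Q (papp P 4)) (papp P (papp Q 4)) &&
      Nat.beq (papp Q (papp P 6)) (papp P (papp Q 6))) = true := by decide +kernel
  have : k = pm P := by
    apply eq_of_val adm_frW (M23_le24 hk) (M22_le24 (W_le22 hPW))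
    refine forall_frW (p := fun i => val k i = val (pm P) i) ?_
    intro i hi
    show val k i = val (pm P) i
    by_cases hi' : i ∈ [4, 13, 16, 22, 6, 7]
    · obtain ⟨Q, hQ, h3⟩ := List.any_eq_true.1 (List.all_eq_true.1 k5 i hi')
      have h8 := List.all_eq_true.1 (List.all_eq_true.1 k6 P hP) Q hQ
      rw [Bool.and_eq_true] at h8
      rw [Bool.or_eq_true] at h3
      rcases h3 with h3 | h3
      · rw [← Nat.eq_of_beq_eq_true h3, hc Q hQ 4 (by norm_num), ← e4,
          Nat.eq_of_beq_eq_true h8.1, val_pm (pW hP)]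
        exact papp_lt (pW hQ) (by norm_num)
      · rw [← Nat.eq_of_beq_eq_true h3, hc Q hQ 6 (by norm_num), ← e6,
          Nat.eq_of_beq_eq_true h8.2, val_pm (pW hP)]
        exact papp_lt (pW hQ) (by norm_num)
    · have hi23 : i = 23 := by
        simp only [List.mem_cons, List.not_mem_nil, or_false] at hi hi'
        omega
      rw [hi23, val23 hk, val23 (M22_le23 (W_le22 hPW))]
  rw [this]
  exact hPW

/-! ### The normaliser of `S` -/

/-- an element of `S` centralising `V ∩ W` lies in `R = VW` -/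
theorem mem_R_of_cent {s : Equiv.Perm GolayPt} (hs : s ∈ S) (h : ∀ x ∈ V, x ∈ W → s * x = x * s) :
    s ∈ R := by
  by_contra hR
  obtain ⟨v, hv, w, hw, rfl⟩ := out_R hs hR
  obtain ⟨x, hxV, hxW, hx⟩ := c0
  apply hx
  have h1 := h x hxV hxW
  have hyV : c * x * c⁻¹ ∈ V := cV x hxV
  have hyW : c * x * c⁻¹ ∈ W := cW x hxW
  have h2 : v * (c * x * c⁻¹) = c * x * c⁻¹ * v := comm_of_El elV hv hyV
  have h3 : w * (c * x * c⁻¹) = c * x * c⁻¹ * w := comm_of_El elW hw hyW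
  have h4 : c * x * c⁻¹ = x := by
    apply mul_right_cancel (b := v * w * c)
    calc c * x * c⁻¹ * (v * w * c) = (c * x * c⁻¹ * v) * w * c := by group
      _ = v * (c * x * c⁻¹ * w) * c := by rw [← h2]; group
      _ = v * w * c * x := by rw [← h3]; group
      _ = x * (v * w * c) := h1
  calc c * x = c * x * c⁻¹ * c := by group
    _ = x * c := by rw [h4]

theorem R_cent {r : Equiv.Perm GolayPt} (hr : r ∈ R) {x : Equiv.Perm GolayPt} (hV : x ∈ V)
    (hW : x ∈ W) : r * x = x * r := by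
  obtain ⟨v, hv, w, hw, rfl⟩ := mem_R.1 hr
  rw [mul_assoc, comm_of_El elW hw hW, ← mul_assoc, comm_of_El elV hv hV, mul_assoc]

theorem nrm_inv {G : Type*} [Group G] {g : G} {V : Subgroup G} (h : Nrm g V) {x : G} (hx : x ∈ V) :
    g⁻¹ * x * g ∈ V := by
  rw [← h]
  have e : g * (g⁻¹ * x * g) * g⁻¹ = x := by group
  rw [e]; exact hx

theorem nrm_mul {G : Type*} [Group G] {g h : G} {V : Subgroup G} (hg : Nrm g V) (hh : Nrm h V) :
    Nrm (g * h) V := by
  intro x
  have e : g * h * x * (g * h)⁻¹ = g * (h * x * h⁻¹) * g⁻¹ := by group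
  rw [e, hg, hh]

theorem nrm_S_of_mem {s : Equiv.Perm GolayPt} (hs : s ∈ S) : Nrm s S :=
  nrm_of fun _ hx => S.mul_mem (S.mul_mem hs hx) (S.inv_mem hs)

end Cfsg.Agent.KFacts.MM.Cent

end
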