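import Cfsg.Agent.KFacts.MM.OutM
import Mathlib.GroupTheory.Perm.Fin

-- merged: Cfsg.Agent.KFacts.MM.OutI
section

/-!
# `M22:2`: the action of `N(W)` on the five tetrads and other fields over `ι : A →* Perm GolayPt`, injective
with range `D22` (helper969)
-/

set_option autoImplicit false
set_option Elab.async false

namespace Cfsg.Agent.KFacts.MM.OutI

open Cfsg Cfsg.Agent.KFacts.MM.El Cfsg.Agent.KFacts.MM.Data Cfsg.Agent.KFacts.MM.DataO
open Cfsg.Agent.KFacts.MM.DataT Cfsg.Agent.KFacts.MM.Sub Cfsg.Agent.KFacts.MM.Int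
open Cfsg.Agent.KFacts.MM.El16 Cfsg.Agent.KFacts.MM.Cent Cfsg.Agent.KFacts.MM.OutP
open Cfsg.Agent.KFacts.MM.OutT Cfsg.Agent.KFacts.MM.OutN Cfsg.Agent.KFacts.MM.OutM
open Cfsg.Agent.SporadicA.GolayBase Cfsg.Agent.SporadicA.GolayPerm
open Cfsg.Agent.J4Type.Aut22 (D22 mem_D22_iff M22_le_D22 mem_M22_iff_D22)
open Cfsg.Agent.OddHalf.MM (Nrm Cen El)
open Subgroup

variable {A : Type*} [Group A] {ι : A →* Equiv.Perm GolayPt}

theorem mem_D (hr : ι.range = D22) (a : A) : ι a ∈ D22 := by
  rw [← hr]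
  exact ⟨a, rfl⟩

theorem lift (hr : ι.range = D22) {x : Equiv.Perm GolayPt} (hx : x ∈ D22) : ∃ a : A, ι a = x := by
  rw [← hr] at hx
  exact hx

theorem lift22 (hr : ι.range = D22) {x : Equiv.Perm GolayPt} (hx : x ∈ Spor.M22) : ∃ a : A, ι a = x :=
  lift hr (M22_le_D22 hx)

theorem W_leD : W ≤ D22 := W_le22.trans M22_le_D22

theorem V_leD : V ≤ D22 := V_le22.trans M22_le_D22

/-- normalising in `A` and in the image -/
theorem nrm_comap (hr : ι.range = D22) {U : Subgroup (Equiv.Perm GolayPt)} (hU : U ≤ D22) (a : A) :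
    Nrm a (U.comap ι) ↔ Nrm (ι a) U := by
  constructor
  · intro h x
    have key : ∀ y : A, ι a * ι y * (ι a)⁻¹ ∈ U ↔ ι y ∈ U := by
      intro y
      have h1 := h y
      rw [mem_comap, mem_comap, map_mul, map_mul, map_inv] at h1
      exact h1
    constructor
    · intro hx
      have h1 : x ∈ D22 := by
        have h2 := mul_mem (mul_mem (inv_mem (mem_D hr a)) (hU hx)) (mem_D hr a)
        have e : (ι a)⁻¹ * (ι a * x * (ι a)⁻¹) * ι a = x := by group
        rwa [e] at h2
      obtain ⟨y, rfl⟩ := lift hr h1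
      exact (key y).1 hx
    · intro hx
      obtain ⟨y, rfl⟩ := lift hr (hU hx)
      exact (key y).2 hx
  · intro h y
    rw [mem_comap, mem_comap, map_mul, map_mul, map_inv]
    exact h (ι y)

theorem cen_comap (hin : Function.Injective ι) (hr : ι.range = D22)
    {U : Subgroup (Equiv.Perm GolayPt)} (hU : U ≤ D22) (a : A) :
    Cen a (U.comap ι) ↔ Cen (ι a) U := by
  constructor
  · intro h x hx
    obtain ⟨y, rfl⟩ := lift hr (hU hx)
    have h1 := h y hx
    rw [← map_mul, ← map_mul, h1]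
  · intro h y hy
    apply hin
    rw [map_mul, map_mul]
    exact h (ι y) hy

theorem card_comap (hin : Function.Injective ι) (hr : ι.range = D22)
    {U : Subgroup (Equiv.Perm GolayPt)} (hU : U ≤ D22) : Nat.card (U.comap ι) = Nat.card U := by
  have h1 : (U.comap ι).map ι = U := by
    rw [map_comap_eq, hr]
    exact inf_eq_right.2 hU
  rw [Nat.card_congr ((U.comap ι).equivMapOfInjective ι hin).toEquiv, h1]

/-! ### The index -/

theorem idx (hr : ι.range = D22) : ((Spor.M22).comap ι).index = 2 := by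
  rw [index_eq_two_iff_exists_notMem_and]
  obtain ⟨b', hb⟩ := lift hr b_D22
  refine ⟨b', ?_, fun a => ?_⟩
  · rw [mem_comap, hb]
    exact b_not_M22
  · by_cases h : ι a ∈ Spor.M22
    · exact Or.inr h
    · left
      rw [mem_comap, map_mul, hb]
      exact out_b (mem_D hr a) h

/-! ### The action on the tetrads -/

section act

variable (hr : ι.range = D22)

include hr

theorem nrmW (a : normalizer ((W.comap ι : Subgroup A) : Set A)) : Nrm (ι (a : A)) W := by
  apply (nrm_comap hr W_leD _).1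
  intro x
  exact (mem_normalizer_iff.1 a.2 x).symm

/-- the action of `N(W)` on the five tetrads -/
@[reducible]
noncomputable def act : MulAction (normalizer ((W.comap ι : Subgroup A) : Set A)) (Fin 5) where
  smul a j := ⟨T (val (ι (a : A)) (rp j)), T_lt (nrmW hr a) j.2⟩
  one_smul j := by
    apply Fin.ext
    show T (val (ι ((1 : normalizer ((W.comap ι : Subgroup A) : Set A)) : A)) (rp j)) = j
    rw [OneMemClass.coe_one, map_one, val_one (rp_lt j.2), T_rp j.2]
  mul_smul a c j := by
    apply Fin.ext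
    show T (val (ι ((a * c : normalizer ((W.comap ι : Subgroup A) : Set A)) : A)) (rp j)) =
      T (val (ι (a : A)) (rp (T (val (ι (c : A)) (rp j)))))
    have h1 := T_lt (nrmW hr c) j.2
    rw [MulMemClass.coe_mul, map_mul, val_mul]
    exact T_congr (nrmW hr a) (val_lt _ _) (rp_lt h1) (by omega) (T_rp h1).symm

/-- the homomorphism onto `S5` -/
noncomputable def ρ : normalizer ((W.comap ι : Subgroup A) : Set A) →* Equiv.Perm (Fin 5) :=
  @MulAction.toPermHom _ _ _ (act hr)

theorem ρ_apply (a : normalizer ((W.comap ι : Subgroup A) : Set A)) (j : Fin 5) :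
    ((ρ hr a j : Fin 5) : ℕ) = T (val (ι (a : A)) (rp j)) := rfl

theorem ρ_eq_one (a : normalizer ((W.comap ι : Subgroup A) : Set A)) :
    ρ hr a = 1 ↔ (a : A) ∈ P.comap ι := by
  constructor
  · intro h
    apply ker (mem_D hr _) (nrmW hr a)
    intro j hj
    have h1 := ρ_apply hr a ⟨j, hj⟩
    rw [h] at h1
    exact h1.symm
  · intro h
    apply Equiv.ext
    intro j
    apply Fin.ext
    rw [ρ_apply, T_P h (rp_lt j.2), T_rp j.2]
    rfl

/-- an element of `N(W)` from a packed permutation -/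
theorem lift_nrm {Q : ℕ} (hQ : ok22 Q = true) (hc : cj [Q] WL = true) :
    ∃ a : normalizer ((W.comap ι : Subgroup A) : Set A), ι (a : A) = pm Q := by
  obtain ⟨hp, hM⟩ := mem_of_ok22 hQ
  obtain ⟨a, ha⟩ := lift22 hr hM
  have h1 : Nrm a (W.comap ι) := by
    rw [nrm_comap hr W_leD, ha]
    exact Tr.nrm_of_cj hp hc
  exact ⟨⟨a, mem_normalizer_iff.2 fun x => (h1 x).symm⟩, ha⟩

theorem ρ_surj : Function.Surjective (ρ hr) := by
  rw [← MonoidHom.range_eq_top]
  have hr1 : ok22 rP = true ∧ cj [rP] WL = true ∧ ok22 sP = true ∧ cj [sP] WL = true := by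
    decide +kernel
  obtain ⟨k1, k2, k3, k4⟩ := hr1
  obtain ⟨r, hr2⟩ := lift_nrm hr k1 k2
  obtain ⟨s, hs2⟩ := lift_nrm hr k3 k4
  have e1 : ρ hr r = (finRotate 5)⁻¹ := by
    rw [eq_inv_iff_mul_eq_one]
    apply Equiv.ext
    intro j
    apply Fin.ext
    rw [Equiv.Perm.mul_apply, ρ_apply, hr2, val_pm (mem_of_ok22 k1).1 (rp_lt (Fin.is_lt _))]
    have h : ∀ j : Fin 5, T (papp rP (rp (finRotate 5 j))) = j := by decide +kernel
    exact h j
  have e2 : ρ hr s = Equiv.swap 0 1 := by
    apply Equiv.ext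
    intro j
    apply Fin.ext
    rw [ρ_apply, hs2, val_pm (mem_of_ok22 k3).1 (rp_lt j.2)]
    have h : ∀ j : Fin 5, T (papp sP (rp j)) = (Equiv.swap (0 : Fin 5) 1 j : Fin 5) := by decide +kernel
    exact h j
  have h1 : closure ({(finRotate 5)⁻¹, Equiv.swap 0 1} : Set (Equiv.Perm (Fin 5))) = ⊤ := by
    apply Equiv.Perm.closure_prime_cycle_swap
    · rw [Fintype.card_fin]
      norm_num
    · exact (isCycle_finRotate (n := 3)).inv
    · rw [Equiv.Perm.support_inv]
      exact support_finRotate (n := 3)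
    · exact ⟨0, 1, by decide, rfl⟩
  rw [eq_top_iff, ← h1, closure_le]
  rintro x (rfl | rfl)
  · exact ⟨r, e1⟩
  · exact ⟨s, e2⟩

theorem s5 : ∃ ρ : normalizer ((W.comap ι : Subgroup A) : Set A) →* Equiv.Perm (Fin 5),
    Function.Surjective ρ ∧ ∀ a, ρ a = 1 ↔ (a : A) ∈ P.comap ι :=
  ⟨ρ hr, ρ_surj hr, ρ_eq_one hr⟩

end act

end Cfsg.Agent.KFacts.MM.OutI

end

-- merged: Cfsg.Agent.KFacts.MM.OutAut
section

/-!
# The automorphism group of a group isomorphic to `M22` is `D22` (helper969)

`exists_iota` : for `K` isomorphic to `M22` there is an injective homomorphism `ι` of `MulAut K` into the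
permutations of the 24 points, with range `D22`; the inner automorphisms are the preimage of `M22`.
-/

set_option autoImplicit false
set_option Elab.async false

namespace Cfsg.Agent.KFacts.MM.OutAut

open Cfsg
open Cfsg.Agent.J4Type.Aut22 (D22 mem_D22_iff M22_le_D22 mem_M22_iff_D22 exists_conj
  eq_one_of_centralizes)

/-- the permutation inducing an automorphism of `M22` -/
noncomputable def ind (α : MulAut Spor.M22) : Equiv.Perm GolayPt := (exists_conj α).choose

theorem ind_mem (α : MulAut Spor.M22) : ind α ∈ D22 := (exists_conj α).choose_spec.1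

theorem ind_apply (α : MulAut Spor.M22) (m : Spor.M22) :
    (α m : Equiv.Perm GolayPt) = ind α * m * (ind α)⁻¹ := (exists_conj α).choose_spec.2 m

/-- uniqueness -/
theorem ind_eq {α : MulAut Spor.M22} {g : Equiv.Perm GolayPt} (hg : g ∈ D22)
    (h : ∀ m : Spor.M22, (α m : Equiv.Perm GolayPt) = g * m * g⁻¹) : ind α = g := by
  have h1 : g⁻¹ * ind α = 1 := by
    apply eq_one_of_centralizes (mul_mem (inv_mem hg) (ind_mem α))
    intro m
    have h2 := h m
    rw [ind_apply α m] at h2
    calc g⁻¹ * ind α * m * (g⁻¹ * ind α)⁻¹ = g⁻¹ * (ind α * m * (ind α)⁻¹) * g := by group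
      _ = g⁻¹ * (g * m * g⁻¹) * g := by rw [h2]
      _ = m := by group
  exact (inv_mul_eq_one.1 h1).symm

/-- the embedding of the automorphism group of `M22` -/
noncomputable def emb : MulAut Spor.M22 →* Equiv.Perm GolayPt where
  toFun := ind
  map_one' := by
    apply ind_eq (one_mem _)
    intro m
    rw [one_mul, inv_one, mul_one]
    rfl
  map_mul' α β := by
    apply ind_eq (mul_mem (ind_mem α) (ind_mem β))
    intro m
    rw [MulAut.mul_apply, ind_apply α, ind_apply β]
    group

theorem emb_inj : Function.Injective emb := by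
  intro α β h
  have h1 : ind α = ind β := h
  apply MulEquiv.ext
  intro m
  apply Subtype.ext
  rw [ind_apply α, ind_apply β, h1]

theorem conj_mem22 {g m : Equiv.Perm GolayPt} (hg : g ∈ D22) (hm : m ∈ Spor.M22) :
    g * m * g⁻¹ ∈ Spor.M22 := by
  rw [mem_M22_iff_D22]
  refine ⟨mul_mem (mul_mem hg (M22_le_D22 hm)) (inv_mem hg), ?_⟩
  have hm' := (mem_D22_iff m).1 (M22_le_D22 hm)
  have hmn := ((mem_M22_iff_D22 m).1 hm).2
  have hm0 : m (some 0) = some 0 := by
    rcases hm'.2 with h | h
    · exact h.2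
    · rw [hmn] at h
      simp at h
  rcases ((mem_D22_iff g).1 hg).2 with h | h
  · have h1 : g⁻¹ none = none := by
      rw [Equiv.Perm.inv_eq_iff_eq]
      exact h.1.symm
    rw [Equiv.Perm.mul_apply, Equiv.Perm.mul_apply, h1, hmn, h.1]
  · have h1 : g⁻¹ none = some 0 := by
      rw [Equiv.Perm.inv_eq_iff_eq]
      exact h.2.symm
    rw [Equiv.Perm.mul_apply, Equiv.Perm.mul_apply, h1, hm0, h.2]

/-- the automorphism induced by an element of `D22` -/
noncomputable def autOf (g : Equiv.Perm GolayPt) (hg : g ∈ D22) : MulAut Spor.M22 where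
  toFun m := ⟨g * m * g⁻¹, conj_mem22 hg m.2⟩
  invFun m := ⟨g⁻¹ * m * g, by
    have := conj_mem22 (inv_mem hg) m.2
    rwa [inv_inv] at this⟩
  left_inv m := by
    apply Subtype.ext
    show g⁻¹ * (g * m * g⁻¹) * g = m
    group
  right_inv m := by
    apply Subtype.ext
    show g * (g⁻¹ * m * g) * g⁻¹ = m
    group
  map_mul' m n := by
    apply Subtype.ext
    show g * (m * n) * g⁻¹ = (g * m * g⁻¹) * (g * n * g⁻¹)
    group

theorem emb_range : emb.range = D22 := by
  apply le_antisymm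
  · rintro _ ⟨α, rfl⟩
    exact ind_mem α
  · intro g hg
    exact ⟨autOf g hg, ind_eq hg fun m => rfl⟩

theorem emb_conj (m : Spor.M22) : emb (MulAut.conj m) = m :=
  ind_eq (M22_le_D22 m.2) fun n => by
    rw [MulAut.conj_apply]
    rfl

theorem of_emb_mem {α : MulAut Spor.M22} (h : emb α ∈ Spor.M22) : α = MulAut.conj ⟨emb α, h⟩ :=
  emb_inj (emb_conj ⟨emb α, h⟩).symm

theorem exists_iota {K : Type*} [Group K] (hK : Spor.IsoM22 K) :
    ∃ ι : MulAut K →* Equiv.Perm GolayPt, Function.Injective ι ∧ ι.range = D22 ∧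
      (Spor.M22).comap ι = (MulAut.conj : K →* MulAut K).range := by
  obtain ⟨e⟩ := hK
  refine ⟨emb.comp (MulAut.congr e).toMonoidHom, ?_, ?_, ?_⟩
  · intro α β h
    exact (MulAut.congr e).injective (emb_inj h)
  · rw [← emb_range]
    ext x
    constructor
    · rintro ⟨α, rfl⟩
      exact ⟨MulAut.congr e α, rfl⟩
    · rintro ⟨β, rfl⟩
      refine ⟨(MulAut.congr e).symm β, ?_⟩
      show emb (MulAut.congr e ((MulAut.congr e).symm β)) = emb β
      rw [MulEquiv.apply_symm_apply]
  · have hc : ∀ k : K, MulAut.congr e (MulAut.conj k) = MulAut.conj (e k) := by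
      intro k
      apply MulEquiv.ext
      intro m
      show e (k * e.symm m * k⁻¹) = e k * m * (e k)⁻¹
      rw [map_mul, map_mul, map_inv, e.apply_symm_apply]
    ext α
    constructor
    · intro h
      have h1 : emb (MulAut.congr e α) ∈ Spor.M22 := h
      refine ⟨e.symm ⟨_, h1⟩, ?_⟩
      apply (MulAut.congr e).injective
      rw [hc, e.apply_symm_apply]
      exact (of_emb_mem h1).symm
    · rintro ⟨k, rfl⟩
      show emb (MulAut.congr e (MulAut.conj k)) ∈ Spor.M22
      rw [hc, emb_conj]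
      exact (e k).2

end Cfsg.Agent.KFacts.MM.OutAut

end
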