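import Cfsg.Agent.KFacts.MM.OutP
import Cfsg.Agent.KFacts.MM.NormS

-- merged: Cfsg.Agent.KFacts.MM.OutS
section

/-!
# The Sylow 2-subgroup `SA = S⟨b⟩` of `M22:2` (ambient form)
-/

set_option autoImplicit false

namespace Cfsg.Agent.KFacts.MM.OutS

open Cfsg Cfsg.Agent.KFacts.MM.El Cfsg.Agent.KFacts.MM.Data Cfsg.Agent.KFacts.MM.DataO
open Cfsg.Agent.KFacts.MM.Sub Cfsg.Agent.KFacts.MM.Int Cfsg.Agent.KFacts.MM.El16
open Cfsg.Agent.KFacts.MM.Cent Cfsg.Agent.KFacts.MM.OutP Cfsg.Agent.KFacts.MM.NormS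
open Cfsg.Agent.SporadicA.GolayBase Cfsg.Agent.SporadicA.GolayPerm
open Cfsg.Agent.J4Type.Aut22 (D22 mem_D22_iff M22_le_D22 mem_M22_iff_D22 card_D22)
open Cfsg.Agent.OddHalf.MM (Nrm Cen El)

/-! ### The action of `b` -/

theorem bV : ∀ x ∈ V, b * x * b⁻¹ ∈ V := by
  intro x hx
  have := conj_mem (l := [bP]) (by decide +kernel) (by decide +kernel) hx
  rwa [pr_one] at this

theorem b_comm_W : ∀ x ∈ W, b * x = x * b := fun _ hx => comm_of_El elP b_mem (W_le_P hx)

theorem bW : ∀ x ∈ W, b * x * b⁻¹ ∈ W := by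
  intro x hx
  rw [b_comm_W x hx, mul_inv_cancel_right]
  exact hx

theorem b_comm_c : b * c = c * b := by
  have h := pr_of_weq (l := [bP, cP]) (m := [cP, bP]) (by decide +kernel) (by decide +kernel)
    (by decide +kernel)
  rwa [pr_two, pr_two] at h

theorem b_comm_z : b * z = z * b := b_comm_W z zW

theorem bS : ∀ s ∈ S, b * s * b⁻¹ ∈ S := by
  rintro _ ⟨v, hv, w, hw, rfl | rfl⟩
  · have e : b * (v * w) * b⁻¹ = (b * v * b⁻¹) * (b * w * b⁻¹) := by group
    rw [e]
    exact mul_mem (V_le (bV v hv)) (W_le (bW w hw))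
  · have e : b * (v * w * c) * b⁻¹ = (b * v * b⁻¹) * (b * w * b⁻¹) * (b * c * b⁻¹) := by group
    have hc : b * c * b⁻¹ = c := by rw [b_comm_c, mul_inv_cancel_right]
    rw [e, hc]
    exact mul_mem (mul_mem (V_le (bV v hv)) (W_le (bW w hw))) c_mem

/-- the Sylow 2-subgroup of `M22:2` -/
noncomputable def SA : Subgroup (Equiv.Perm GolayPt) where
  carrier := {g | g ∈ S ∨ g * b ∈ S}
  mul_mem' := by
    rintro g h (hg | hg) (hh | hh)
    · exact Or.inl (mul_mem hg hh)
    · right
      rw [mul_assoc]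
      exact mul_mem hg hh
    · right
      have h1 := mul_mem hg (bS h hh)
      have e : g * b * (b * h * b⁻¹) = g * (b * b) * h * b⁻¹ := by group
      rw [e, bb, mul_one, b_inv] at h1
      exact h1
    · left
      have h1 := mul_mem hg (bS _ hh)
      have e : g * b * (b * (h * b) * b⁻¹) = g * (b * b) * h := by group
      rw [e, bb, mul_one] at h1
      exact h1
  one_mem' := Or.inl (one_mem S)
  inv_mem' := by
    rintro g (hg | hg)
    · exact Or.inl (inv_mem hg)
    · right
      have h1 := bS _ (inv_mem hg)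
      have e : b * (g * b)⁻¹ * b⁻¹ = (b * b⁻¹) * g⁻¹ * b⁻¹ := by group
      rw [e, mul_inv_cancel, one_mul, b_inv] at h1
      exact h1

theorem mem_SA {g : Equiv.Perm GolayPt} : g ∈ SA ↔ g ∈ S ∨ g * b ∈ S := Iff.rfl

theorem S_le : S ≤ SA := fun _ h => Or.inl h

theorem b_SA : b ∈ SA := by
  right
  rw [bb]
  exact one_mem S

theorem P_le_SA : P ≤ SA := by
  intro x hx
  obtain ⟨w, hw, rfl | rfl⟩ := mem_P.1 hx
  · exact S_le (W_le hw)
  · exact mul_mem (S_le (W_le hw)) b_SA

theorem SA_le : SA ≤ D22 := by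
  rintro g (hg | hg)
  · exact M22_le_D22 (S_le22 hg)
  · have h1 := mul_mem (M22_le_D22 (S_le22 hg)) (inv_mem b_D22)
    rwa [mul_inv_cancel_right] at h1

/-- an element of `SA` in `M22` lies in `S` -/
theorem SA_M22 {g : Equiv.Perm GolayPt} (hg : g ∈ SA) (h : g ∈ Spor.M22) : g ∈ S := by
  rcases hg with hg | hg
  · exact hg
  · exfalso
    apply b_not_M22
    have := mul_mem (inv_mem h) (S_le22 hg)
    rwa [inv_mul_cancel_left] at this

theorem sq_SA {g : Equiv.Perm GolayPt} (hg : g ∈ SA) : g * g ∈ S := by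
  rcases hg with hg | hg
  · exact mul_mem hg hg
  · have h1 := mul_mem hg (bS _ hg)
    have e : g * b * (b * (g * b) * b⁻¹) = g * (b * b) * g := by group
    rwa [e, bb, mul_one] at h1

theorem isPGroup_SA : IsPGroup 2 SA := by
  intro g
  refine ⟨4, ?_⟩
  apply Subtype.ext
  have h1 := sq_S (sq_SA g.2)
  have h2 := elV _ (sq_R h1)
  have h3 : ((g : Equiv.Perm GolayPt)) ^ (2 ^ 4) = (g : Equiv.Perm GolayPt) * g * (g * g) *
      (g * g * (g * g)) * (g * g * (g * g) * (g * g * (g * g))) := by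
    norm_num [pow_succ, mul_assoc]
  show ((g : Equiv.Perm GolayPt)) ^ (2 ^ 4) = 1
  rw [h3, h2]

theorem card_le_of_two {A : Subgroup (Equiv.Perm GolayPt)} (hA : Nat.card A = 887040) {Q : Subgroup A}
    (hQ : IsPGroup 2 Q) : Nat.card Q ≤ 256 := by
  obtain ⟨n, hn⟩ := IsPGroup.iff_card.1 hQ
  have h1 : 2 ^ n ∣ 2 ^ 8 * 3465 := by
    rw [← hn, show 2 ^ 8 * 3465 = 887040 by norm_num, ← hA]
    exact Subgroup.card_subgroup_dvd_card Q
  have h2 : 2 ^ n ∣ 2 ^ 8 := by
    apply Nat.Coprime.dvd_of_dvd_mul_right _ h1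
    exact Nat.Coprime.pow_left n (by norm_num)
  rw [hn]
  exact Nat.le_of_dvd (by norm_num) h2

theorem card_SA : Nat.card SA = 256 := by
  have hle : Nat.card SA ≤ 256 := by
    have h1 : IsPGroup 2 (SA.subgroupOf D22) :=
      isPGroup_SA.comap_of_injective D22.subtype D22.subtype_injective
    have h2 := card_le_of_two card_D22 h1
    rwa [Nat.card_congr (Subgroup.subgroupOfEquivOfLe SA_le).toEquiv] at h2
  obtain ⟨n, hn⟩ := IsPGroup.iff_card.1 isPGroup_SA
  have hlt : Nat.card S < Nat.card SA := by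
    by_contra hcon
    have h1 := Subgroup.eq_of_le_of_card_ge S_le (not_lt.1 hcon)
    apply b_not_M22
    apply S_le22
    rw [h1]
    exact b_SA
  have h128 := card_S_ge
  rw [hn] at hlt hle ⊢
  have h7 : 7 < n := by
    by_contra hcon
    have := Nat.pow_le_pow_right (show 0 < 2 by norm_num) (not_lt.1 hcon)
    norm_num at this
    omega
  have h8 : n ≤ 8 := by
    by_contra hcon
    have := Nat.pow_le_pow_right (show 0 < 2 by norm_num) (show 9 ≤ n by omega)
    norm_num at this
    omega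
  have : n = 8 := by omega
  rw [this]
  norm_num

/-! ### Normal subgroups, centre, elementary abelian subgroups -/

theorem SA_V : ∀ s ∈ SA, ∀ x ∈ V, s * x * s⁻¹ ∈ V := by
  rintro s (hs | hs) x hx
  · exact S_V s hs x hx
  · have h1 := S_V _ hs _ (bV x hx)
    have e : s * b * (b * x * b⁻¹) * (s * b)⁻¹ = s * (b * b) * x * (b * b)⁻¹ * s⁻¹ := by group
    rwa [e, bb, mul_one, inv_one, mul_one] at h1

theorem SA_W : ∀ s ∈ SA, ∀ x ∈ W, s * x * s⁻¹ ∈ W := by
  rintro s (hs | hs) x hx
  · exact S_W s hs x hx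
  · have h1 := S_W _ hs _ (bW x hx)
    have e : s * b * (b * x * b⁻¹) * (s * b)⁻¹ = s * (b * b) * x * (b * b)⁻¹ * s⁻¹ := by group
    rwa [e, bb, mul_one, inv_one, mul_one] at h1

theorem D22_le24 {g : Equiv.Perm GolayPt} (h : g ∈ D22) : g ∈ M24 := ((mem_D22_iff g).1 h).1

theorem cen_SA : ∀ y ∈ SA, (∀ s ∈ SA, s * y = y * s) → y = 1 ∨ y = z := by
  intro y hy h
  have hyS : y ∈ S := V_le (CV (D22_le24 (SA_le hy)) fun x hx => (h x (S_le (V_le hx))).symm)
  exact cen y hyS fun s hs => h s (S_le hs)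

theorem out_mul_SA {s t : Equiv.Perm GolayPt} (hs : s ∈ SA) (hS : s ∉ S) (ht : t ∈ SA) (hS' : t ∉ S) :
    s⁻¹ * t ∈ S := by
  have h1 := hs.resolve_left hS
  have h2 := ht.resolve_left hS'
  have h3 := bS _ (mul_mem (inv_mem h1) h2)
  have e : b * ((s * b)⁻¹ * (t * b)) * b⁻¹ = (b * b⁻¹) * (s⁻¹ * t) * (b * b⁻¹) := by group
  rwa [e, mul_inv_cancel, one_mul, mul_one] at h3

theorem el32 (E : Subgroup (Equiv.Perm GolayPt)) (hE : E ≤ SA) (hel : El E) (h32 : 32 ≤ Nat.card E) :
    E = P := by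
  by_cases hS : E ≤ S
  · exfalso
    rcases el16 E hS hel (by omega) with h | h
    · rw [h, cardV] at h32; omega
    · rw [h, cardW] at h32; omega
  rw [SetLike.not_le_iff_exists] at hS
  obtain ⟨s, hs, hsS⟩ := hS
  set F := E ⊓ S with hF
  have hcard : 16 ≤ Nat.card F := by
    have hsub : (E : Set (Equiv.Perm GolayPt)) ⊆
        (F : Set (Equiv.Perm GolayPt)) ∪ (fun x => s * x) '' (F : Set (Equiv.Perm GolayPt)) := by
      intro x hx
      by_cases hxR : x ∈ S
      · exact Or.inl ⟨hx, hxR⟩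
      · right
        refine ⟨s⁻¹ * x, ⟨E.mul_mem (E.inv_mem hs) hx, out_mul_SA (hE hs) hsS (hE hx) hxR⟩, ?_⟩
        show s * (s⁻¹ * x) = x
        group
    have h5 := Set.ncard_le_ncard hsub (Set.toFinite _)
    have h6 := (h5.trans (Set.ncard_union_le _ _))
    have h7 := Set.ncard_image_le (f := fun x => s * x) (Set.toFinite (F : Set (Equiv.Perm GolayPt)))
    have e1 : (E : Set (Equiv.Perm GolayPt)).ncard = Nat.card E := rfl
    have e2 : (F : Set (Equiv.Perm GolayPt)).ncard = Nat.card F := rfl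
    rw [e1, e2] at h6
    rw [e2] at h7
    omega
  have hsF : ∀ x ∈ F, s * x = x * s := fun x hx => comm_of_El hel hs hx.1
  rcases el16 F inf_le_right (fun x hx => hel x hx.1) hcard with h | h
  · exfalso
    apply hsS
    apply V_le
    apply CV (D22_le24 (SA_le (hE hs)))
    intro x hx
    rw [← h] at hx
    exact hsF x hx
  · have hEP : E ≤ P := by
      intro x hx
      apply CW' (SA_le (hE hx))
      intro y hy
      rw [← h] at hy
      exact comm_of_El hel hx hy.1
    exact Subgroup.eq_of_le_of_card_ge hEP (by rw [cardP]; exact h32)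

/-! ### Normal self-centralising subgroups of order 16 -/

/-- `W = V₀ W4` -/
theorem mem_S4 {s : Equiv.Perm GolayPt} (hs : s ∈ S) :
    ∃ P ∈ VL, ∃ Q ∈ W4, s = pr [P, Q] ∨ s = pr [P, Q, cP] := by
  have k : (WL.all fun Q => W4.any fun R => V0L.any fun T => weq [Q] [T, R]) = true := by decide +kernel
  obtain ⟨v, hv, _, ⟨Q, hQ, rfl⟩, h⟩ := mem_S.1 hs
  obtain ⟨R, hR, h1⟩ := List.any_eq_true.1 (List.all_eq_true.1 k Q hQ)
  obtain ⟨T, hT, h2⟩ := List.any_eq_true.1 h1
  have h3 := pr_of_weq (okl1 (pW hQ)) (okl2 (pV (V0_mem hT).1) (pW (W4_sub hR))) h2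
  rw [pr_one, pr_two] at h3
  obtain ⟨P, hP, h4⟩ := mul_mem hv (show pm T ∈ V from ⟨T, (V0_mem hT).1, rfl⟩)
  refine ⟨P, hP, R, hR, ?_⟩
  rw [pr_two, pr_three, h4]
  rcases h with h | h
  · left; rw [h, h3, mul_assoc]
  · right; rw [h, h3, mul_assoc v]; rfl

/-- the word `l` is not an involution, or it commutes with `b`, or it does not commute with its conjugate
by `c` -/
def tst (l : List ℕ) : Bool :=
  !weq (l ++ l) [] || (weq (l ++ [bP]) (bP :: l) || !weq (l ++ ([cP] ++ (l ++ [cP]))) ([cP] ++ (l ++ ([cP] ++ l))))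

theorem okl_append {l m : List ℕ} (hl : okl l = true) (hm : okl m = true) : okl (l ++ m) = true := by
  unfold okl at hl hm ⊢
  rw [List.all_append, hl, hm]
  rfl

theorem tst_spec {l : List ℕ} (hl : okl l = true) (h : tst l = true) (h2 : pr l * pr l = 1)
    (hc : pr l * (c * pr l * c) = c * pr l * c * pr l) : pr l * b = b * pr l := by
  unfold tst at h
  rw [Bool.or_eq_true, Bool.or_eq_true, Bool.not_eq_true'] at h
  rcases h with h | h | h
  · exfalso
    apply pr_ne (okl_append hl hl) rfl h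
    rw [pr_append, h2, pr_nil]
  · have h1 := pr_of_weq (okl_append hl (okl1 permb)) (m := bP :: l) (by
      unfold okl at hl ⊢
      rw [List.all_cons, hl, permb]; rfl) h
    rw [pr_append, pr_one, pr_cons] at h1
    exact h1
  · exfalso
    rw [Bool.not_eq_true'] at h
    have hg1 := okl1 permc
    apply pr_ne (okl_append hl (okl_append hg1 (okl_append hl hg1)))
      (okl_append hg1 (okl_append hl (okl_append hg1 hl))) h
    rw [pr_append, pr_append, pr_append, pr_append, pr_append, pr_append, pr_one]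
    have : pr l * (pm cP * pr l * pm cP) = pm cP * pr l * pm cP * pr l := hc
    simpa only [mul_assoc] using this

theorem tst1 : (VL.all fun P => W4.all fun Q => tst [P, Q, bP]) = true := by decide +kernel

theorem tst2 : (VL.all fun P => W4.all fun Q => tst [P, Q, cP, bP]) = true := by decide +kernel

/-- an element of `E - S`, `E` elementary abelian and normal in `SA`, commutes with `b` -/
theorem comm_b {E : Subgroup (Equiv.Perm GolayPt)} (hE : E ≤ SA) (hel : El E)
    (hN : ∀ s ∈ SA, ∀ x ∈ E, s * x * s⁻¹ ∈ E) {e : Equiv.Perm GolayPt} (he : e ∈ E) (heS : e ∉ S) :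
    e * b = b * e := by
  have h1 := (hE he).resolve_left heS
  have hc : e * (c * e * c) = c * e * c * e := by
    have h2 := hN c (S_le c_mem) e he
    rw [c_inv] at h2
    exact comm_of_El hel he h2
  have e2 := hel e he
  have ee : e = e * b * b := by rw [mul_assoc, bb, mul_one]
  obtain ⟨A, hA, B, hB, h3 | h3⟩ := mem_S4 h1
  · have e3 : e = pr [A, B, bP] := by
      have e4 : pr [A, B, bP] = pr [A, B] * b := by rw [pr_three, pr_two]; rfl
      rw [e4, ← h3]; exact ee
    have h4 := List.all_eq_true.1 (List.all_eq_true.1 tst1 A hA) B hB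
    generalize hl : [A, B, bP] = l at e3 h4
    have hok : okl l = true := by rw [← hl]; exact okl3 (pV hA) (pW (W4_sub hB)) permb
    rw [e3] at e2 hc ⊢
    exact tst_spec hok h4 e2 hc
  · have e3 : e = pr [A, B, cP, bP] := by
      have e4 : pr [A, B, cP, bP] = pr [A, B, cP] * b := by rw [pr_four, pr_three]; rfl
      rw [e4, ← h3]; exact ee
    have h4 := List.all_eq_true.1 (List.all_eq_true.1 tst2 A hA) B hB
    generalize hl : [A, B, cP, bP] = l at e3 h4
    have hok : okl l = true := by rw [← hl]; exact okl4 (pV hA) (pW (W4_sub hB)) permc permb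
    rw [e3] at e2 hc ⊢
    exact tst_spec hok h4 e2 hc

theorem self16 (E : Subgroup (Equiv.Perm GolayPt)) (hE : E ≤ SA) (hel : El E) (h16 : Nat.card E = 16)
    (hN : ∀ s ∈ SA, ∀ x ∈ E, s * x * s⁻¹ ∈ E) (hC : ∀ s ∈ SA, Cen s E → s ∈ E) : E = V ∨ b ∈ E := by
  by_cases hS : E ≤ S
  · rcases el16 E hS hel h16.ge with h | h
    · exact Or.inl h
    · right
      apply hC b b_SA
      rw [h]
      exact b_comm_W
  · right
    rw [SetLike.not_le_iff_exists] at hS
    obtain ⟨e, he, heS⟩ := hS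
    apply hC b b_SA
    intro x hx
    by_cases hxS : x ∈ S
    · have h1 : e * x ∉ S := by
        intro h
        apply heS
        have := mul_mem h (inv_mem hxS)
        rwa [mul_inv_cancel_right] at this
      have h2 := comm_b hE hel hN he heS
      have h3 := comm_b hE hel hN (mul_mem he hx) h1
      apply mul_left_cancel (a := e)
      calc e * (b * x) = (e * b) * x := by group
        _ = b * (e * x) := by rw [h2]; group
        _ = e * x * b := h3.symm
        _ = e * (x * b) := by group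
    · exact (comm_b hE hel hN hx hxS).symm

end Cfsg.Agent.KFacts.MM.OutS

end

-- merged: Cfsg.Agent.KFacts.MM.OutC
section

/-!
# The centraliser of `z` in `M22:2`: `[C(z), C(z)]` centralises `b`
-/

set_option autoImplicit false

namespace Cfsg.Agent.KFacts.MM.OutC

open Cfsg Cfsg.Agent.KFacts.MM.El Cfsg.Agent.KFacts.MM.Data Cfsg.Agent.KFacts.MM.DataO
open Cfsg.Agent.KFacts.MM.Sub Cfsg.Agent.KFacts.MM.Int Cfsg.Agent.KFacts.MM.El16
open Cfsg.Agent.KFacts.MM.Cent Cfsg.Agent.KFacts.MM.OutP Cfsg.Agent.KFacts.MM.NormS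
open Cfsg.Agent.KFacts.MM.OutS
open Cfsg.Agent.SporadicA.GolayBase Cfsg.Agent.SporadicA.GolayPerm Cfsg.Agent.SporadicA.M24Frames
open Cfsg.Agent.J4Type.Aut22 (D22 mem_D22_iff M22_le_D22 mem_M22_iff_D22 card_D22)
open Cfsg.Agent.OddHalf.MM (Nrm Cen El)

/-- membership in the octad -/
def memO (i : ℕ) : Bool := oct.any fun j => Nat.beq i j

theorem memO_iff {i : ℕ} : memO i = true ↔ i ∈ oct := by
  unfold memO
  rw [List.any_eq_true]
  constructor
  · rintro ⟨j, hj, h⟩
    rw [Nat.eq_of_beq_eq_true h]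
    exact hj
  · intro h
    exact ⟨i, h, Nat.beq_refl i⟩

/-- `x` preserves the octad -/
def Pres (x : Equiv.Perm GolayPt) : Prop := ∀ i < 24, memO (val x i) = memO i

/-- the table `T` maps `p` to all the points of `al`, fixes `fx` and preserves the octad -/
def stp (T fx al : List ℕ) (p : ℕ) : Bool :=
  al.all fun q => T.any fun t => ok22 t && (Nat.beq (papp t p) q && ((fx.all fun i => Nat.beq (papp t i) i) &&
    pts.all fun i => (memO (papp t i) == memO i)))

theorem step {T fx al : List ℕ} {p : ℕ} (hT : stp T fx al p = true) (hp : p < 24) (hfx : ∀ i ∈ fx, i < 24)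
    {x : Equiv.Perm GolayPt} (hx : x ∈ Spor.M22) (hO : Pres x) (hf : ∀ i ∈ fx, val x i = i)
    (hq : val x p ∈ al) :
    ∃ t ∈ T, ∃ y ∈ Spor.M22, x = pm t * y ∧ Pres y ∧ ∀ i ∈ p :: fx, val y i = i := by
  obtain ⟨t, ht, h⟩ := List.any_eq_true.1 (List.all_eq_true.1 hT _ hq)
  rw [Bool.and_eq_true, Bool.and_eq_true, Bool.and_eq_true] at h
  obtain ⟨h1, h2, h3, h4⟩ := h
  obtain ⟨hperm, h22⟩ := mem_of_ok22 h1
  have hval : ∀ i, i < 24 → papp t (val ((pm t)⁻¹ * x) i) = val x i := by
    intro i hi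
    rw [← val_pm hperm (val_lt _ _), ← val_mul, mul_inv_cancel_left]
  refine ⟨t, ht, (pm t)⁻¹ * x, mul_mem (inv_mem h22) hx, by group, ?_, ?_⟩
  · intro i hi
    have h5 := List.all_eq_true.1 h4 _ (mem_pts (val_lt ((pm t)⁻¹ * x) i))
    rw [hval i hi, hO i hi] at h5
    exact (beq_iff_eq.1 h5).symm
  · intro i hi
    rcases List.mem_cons.1 hi with rfl | hi
    · apply papp_injOn hperm (val_lt _ _) hp
      rw [hval i hp, Nat.eq_of_beq_eq_true h2]
    · have hi24 := hfx i hi
      apply papp_injOn hperm (val_lt _ _) hi24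
      rw [hval i hi24, hf i hi, Nat.eq_of_beq_eq_true (List.all_eq_true.1 h3 i hi)]

/-- the elements of `M22` preserving the octad are products of elements of the chain -/
theorem exists_chain {x : Equiv.Perm GolayPt} (hx : x ∈ Spor.M22) (hO : Pres x) :
    ∃ a ∈ T1, ∃ d ∈ T2, ∃ e ∈ T3, ∃ f ∈ T5, ∃ v ∈ VL, x = pm a * pm d * pm e * pm f * pm v := by
  have hne : ∀ (y : Equiv.Perm GolayPt) (p : ℕ) (fx : List ℕ), p < 24 → (∀ i ∈ fx, i < 24) → Pres y →
      (∀ i ∈ fx, val y i = i) → p ∉ fx → p ∈ oct → val y p ∈ oct ∧ val y p ∉ fx := by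
    intro y p fx hp hfx hO hf hpf hpo
    refine ⟨?_, ?_⟩
    · rw [← memO_iff, hO p hp, memO_iff]; exact hpo
    · intro h
      apply hpf
      have h1 := hf _ h
      have h2 := val_inj (val_lt _ _) hp h1
      rwa [h2] at h
  have e0 := val0 hx
  have e23 := val23 (M22_le23 hx)
  -- first step
  obtain ⟨h1, h2⟩ := hne x 1 [0, 23] (by norm_num) (by decide) hO (by
    intro i hi
    simp only [List.mem_cons, List.not_mem_nil, or_false] at hi
    rcases hi with rfl | rfl
    · exact e0
    · exact e23) (by decide) (by decide)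
  obtain ⟨a, ha, x1, hx1, rfl, hO1, hf1⟩ := step (T := T1) (fx := [0, 23]) (al := [1, 2, 3, 5, 14, 17])
    (p := 1) (by decide +kernel) (by norm_num) (by decide) hx hO (by
      intro i hi
      simp only [List.mem_cons, List.not_mem_nil, or_false] at hi
      rcases hi with rfl | rfl
      · exact e0
      · exact e23) (by
      unfold oct at h1
      simp only [List.mem_cons, List.not_mem_nil, or_false, not_or] at h1 h2 ⊢
      omega)
  obtain ⟨h1, h2⟩ := hne x1 2 [1, 0, 23] (by norm_num) (by decide) hO1 hf1 (by decide) (by decide)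
  obtain ⟨d, hd, x2, hx2, rfl, hO2, hf2⟩ := step (T := T2) (fx := [1, 0, 23]) (al := [2, 3, 5, 14, 17])
    (p := 2) (by decide +kernel) (by norm_num) (by decide) hx1 hO1 hf1 (by
      unfold oct at h1
      simp only [List.mem_cons, List.not_mem_nil, or_false, not_or] at h1 h2 ⊢
      omega)
  obtain ⟨h1, h2⟩ := hne x2 3 [2, 1, 0, 23] (by norm_num) (by decide) hO2 hf2 (by decide) (by decide)
  obtain ⟨e, he, x3, hx3, rfl, hO3, hf3⟩ := step (T := T3) (fx := [2, 1, 0, 23]) (al := [3, 5, 14, 17])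
    (p := 3) (by decide +kernel) (by norm_num) (by decide) hx2 hO2 hf2 (by
      unfold oct at h1
      simp only [List.mem_cons, List.not_mem_nil, or_false, not_or] at h1 h2 ⊢
      omega)
  obtain ⟨h1, h2⟩ := hne x3 5 [3, 2, 1, 0, 23] (by norm_num) (by decide) hO3 hf3 (by decide) (by decide)
  obtain ⟨f, hf, x4, hx4, rfl, hO4, hf4⟩ := step (T := T5) (fx := [3, 2, 1, 0, 23]) (al := [5, 14, 17])
    (p := 5) (by decide +kernel) (by norm_num) (by decide) hx3 hO3 hf3 (by
      unfold oct at h1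
      simp only [List.mem_cons, List.not_mem_nil, or_false, not_or] at h1 h2 ⊢
      omega)
  -- the last step
  have kk : (pts.all fun q => memO q || VL.any fun P => Nat.beq (papp P 4) q) = true := by decide +kernel
  have h3 := List.all_eq_true.1 kk _ (mem_pts (val_lt x4 4))
  have h4 : memO (val x4 4) = false := by rw [hO4 4 (by norm_num)]; decide +kernel
  rw [h4, Bool.false_or] at h3
  obtain ⟨v, hv, h5⟩ := List.any_eq_true.1 h3
  have h5 := Nat.eq_of_beq_eq_true h5
  have k6 : (VL.all fun P => [23, 0, 1, 2, 3, 5].all fun i => Nat.beq (papp P i) i) = true := by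
    decide +kernel
  have h6 : x4 = pm v := by
    apply eq_of_val adm_base7 (M22_le24 hx4) (M22_le24 (V_le22 ⟨v, hv, rfl⟩))
    refine forall_base7 (p := fun i => val x4 i = val (pm v) i) ?_
    intro i hi
    show val x4 i = val (pm v) i
    by_cases hi' : i ∈ [23, 0, 1, 2, 3, 5]
    · have hi24 : i < 24 := by
        simp only [List.mem_cons, List.not_mem_nil, or_false] at hi'; omega
      rw [val_pm (pV hv) hi24, Nat.eq_of_beq_eq_true (List.all_eq_true.1 (List.all_eq_true.1 k6 v hv) i hi')]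
      apply hf4
      simp only [List.mem_cons, List.not_mem_nil, or_false] at hi' ⊢
      tauto
    · have hi4 : i = 4 := by
        simp only [List.mem_cons, List.not_mem_nil, or_false] at hi hi'
        omega
      rw [hi4, val_pm (pV hv) (by norm_num), h5]
  refine ⟨a, ha, d, hd, e, he, f, hf, v, hv, ?_⟩
  rw [h6]
  simp only [mul_assoc]

theorem pres_of_comm {x : Equiv.Perm GolayPt} (h : x * z = z * x) : Pres x := by
  have kz : (pts.all fun i => (Nat.beq (papp zP i) i == memO i)) = true := by decide +kernel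
  intro i hi
  have h1 : (papp zP i = i ↔ papp zP (val x i) = val x i) := by
    rw [← val_comm permz h hi]
    constructor
    · intro h1; rw [h1]
    · intro h1
      exact val_inj (papp_lt permz hi) hi h1
  have h2 := beq_iff_eq.1 (List.all_eq_true.1 kz i (mem_pts hi))
  have h3 := beq_iff_eq.1 (List.all_eq_true.1 kz _ (mem_pts (val_lt x i)))
  rw [← h2, ← h3]
  cases h4 : Nat.beq (papp zP i) i
  · cases h5 : Nat.beq (papp zP (val x i)) (val x i)
    · rfl
    · have h6 := h1.2 (Nat.eq_of_beq_eq_true h5)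
      rw [h6, Nat.beq_refl] at h4
      cases h4
  · have h6 := h1.1 (Nat.eq_of_beq_eq_true h4)
    rw [h6, Nat.beq_refl]

/-- `x` commutes with `z` and maps `b` to `b` or `bz` -/
def HB (x : Equiv.Perm GolayPt) : Prop := x * z = z * x ∧ (x * b = b * x ∨ x * b = b * z * x)

theorem HB.mul {x y : Equiv.Perm GolayPt} (hx : HB x) (hy : HB y) : HB (x * y) := by
  obtain ⟨h1, h2⟩ := hx
  obtain ⟨h3, h4⟩ := hy
  have zz : z * z = 1 := elV z zV
  refine ⟨by rw [mul_assoc, h3, ← mul_assoc, h1, mul_assoc], ?_⟩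
  rcases h2 with h2 | h2 <;> rcases h4 with h4 | h4
  · left; rw [mul_assoc, h4, ← mul_assoc, h2, mul_assoc]
  · right
    calc x * y * b = x * (y * b) := mul_assoc _ _ _
      _ = (x * b) * z * y := by rw [h4]; group
      _ = b * (x * z) * y := by rw [h2]; group
      _ = b * z * (x * y) := by rw [h1]; group
  · right
    calc x * y * b = x * (y * b) := mul_assoc _ _ _
      _ = (x * b) * y := by rw [h4]; group
      _ = b * z * (x * y) := by rw [h2]; group
  · left
    calc x * y * b = x * (y * b) := mul_assoc _ _ _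
      _ = (x * b) * z * y := by rw [h4]; group
      _ = b * z * (x * z) * y := by rw [h2]; group
      _ = b * (z * z) * (x * y) := by rw [h1]; group
      _ = b * (x * y) := by rw [zz, mul_one]

theorem tab : (T1.all fun a => T2.all fun d => T3.all fun e => T5.all fun f =>
    !weq [a, d, e, f, zP] [zP, a, d, e, f] || (weq [a, d, e, f, bP] [bP, a, d, e, f] ||
      weq [a, d, e, f, bP] [bP, zP, a, d, e, f])) = true := by decide +kernel

theorem permT {L : List ℕ} (h : L.all isPerm = true) {P : ℕ} (hP : P ∈ L) : isPerm P = true :=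
  List.all_eq_true.1 h P hP

/-- every element of `C(z)` in `M22:2` maps `b` to `b` or `bz` -/
theorem hb {x : Equiv.Perm GolayPt} (hx : x ∈ D22) (hz : x * z = z * x) : HB x := by
  have hb0 : HB b := ⟨b_comm_z, Or.inl rfl⟩
  have key : ∀ y ∈ Spor.M22, y * z = z * y → HB y := by
    intro y hy hyz
    obtain ⟨a, ha, d, hd, e, he, f, hf, v, hv, rfl⟩ := exists_chain hy (pres_of_comm hyz)
    have hvz : pm v * z = z * pm v := comm_of_El elV ⟨v, hv, rfl⟩ zV
    have pa := permT (L := T1) (by decide +kernel) ha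
    have pd := permT (L := T2) (by decide +kernel) hd
    have pe := permT (L := T3) (by decide +kernel) he
    have pf := permT (L := T5) (by decide +kernel) hf
    have hr : pm a * pm d * pm e * pm f * z = z * (pm a * pm d * pm e * pm f) := by
      apply mul_right_cancel (b := pm v)
      calc pm a * pm d * pm e * pm f * z * pm v = pm a * pm d * pm e * pm f * (z * pm v) := by group
        _ = pm a * pm d * pm e * pm f * pm v * z := by rw [← hvz]; group
        _ = _ := by rw [hyz]; group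
    have hrb : HB (pm a * pm d * pm e * pm f) := by
      refine ⟨hr, ?_⟩
      have h1 := List.all_eq_true.1 (List.all_eq_true.1 (List.all_eq_true.1 (List.all_eq_true.1 tab a ha) d hd)
        e he) f hf
      have okr : okl [a, d, e, f] = true := by
        unfold okl
        rw [List.all_cons, List.all_cons, List.all_cons, List.all_cons, pa, pd, pe, pf]; rfl
      have hpr : pr [a, d, e, f] = pm a * pm d * pm e * pm f := pr_four _ _ _ _
      have p1 : ∀ Q, pr [a, d, e, f, Q] = pm a * pm d * pm e * pm f * pm Q := by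
        intro Q
        have := pr_append [a, d, e, f] [Q]
        rw [hpr, pr_one] at this
        exact this
      have p2 : ∀ Q, pr [Q, a, d, e, f] = pm Q * (pm a * pm d * pm e * pm f) := by
        intro Q
        rw [pr_cons, hpr]
      have p3 : ∀ Q R, pr [Q, R, a, d, e, f] = pm Q * pm R * (pm a * pm d * pm e * pm f) := by
        intro Q R
        rw [pr_cons, pr_cons, hpr, ← mul_assoc]
      have o1 : ∀ Q, isPerm Q = true → okl [a, d, e, f, Q] = true := by
        intro Q hQ
        exact okl_append okr (okl1 hQ)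
      have o2 : ∀ Q, isPerm Q = true → okl [Q, a, d, e, f] = true := by
        intro Q hQ
        exact okl_append (okl1 hQ) okr
      rw [Bool.or_eq_true, Bool.or_eq_true, Bool.not_eq_true'] at h1
      rcases h1 with h1 | h1 | h1
      · exfalso
        apply pr_ne (o1 _ permz) (o2 _ permz) h1
        rw [p1, p2]
        exact hr
      · left
        have := pr_of_weq (o1 _ permb) (o2 _ permb) h1
        rwa [p1, p2] at this
      · right
        have := pr_of_weq (o1 _ permb) (okl_append (okl2 permb permz) okr) h1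
        rw [p1] at this
        rw [show ([bP, zP] ++ [a, d, e, f]) = [bP, zP, a, d, e, f] from rfl, p3] at this
        exact this
    refine hrb.mul ⟨hvz, ?_⟩
    have kv : (VL.all fun P => weq [P, bP] [bP, P] || weq [P, bP] [bP, zP, P]) = true := by decide +kernel
    have h1 := List.all_eq_true.1 kv v hv
    rw [Bool.or_eq_true] at h1
    rcases h1 with h1 | h1
    · left
      have := pr_of_weq (okl2 (pV hv) permb) (okl2 permb (pV hv)) h1
      rwa [pr_two, pr_two] at this
    · right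
      have := pr_of_weq (okl2 (pV hv) permb) (okl3 permb permz (pV hv)) h1
      rwa [pr_two, pr_three] at this
  by_cases h22 : x ∈ Spor.M22
  · exact key x h22 hz
  · have h1 : HB (x * b) := key _ (out_b hx h22) (by
      rw [mul_assoc, b_comm_z, ← mul_assoc, hz, mul_assoc])
    have h2 := h1.mul hb0
    rwa [mul_assoc, bb, mul_one] at h2

theorem mulw {G : Type*} [Group G] {b w w' x y : G} (hx : x * b = b * w * x) (hy : y * b = b * w' * y)
    (hxw : x * w' = w' * x) (_ : w' * b = b * w') (_ : w * w' = w' * w) :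
    x * y * b = b * (w * w') * (x * y) := by
  calc x * y * b = x * (y * b) := mul_assoc _ _ _
    _ = (x * b) * w' * y := by rw [hy]; group
    _ = b * w * (x * w') * y := by rw [hx]; group
    _ = b * (w * w') * (x * y) := by rw [hxw]; group

theorem commw {G : Type*} [Group G] {b w X Y : G} (hX : X * b = b * w * X) (hY : Y * b = b * w * Y)
    (hXw : X * w = w * X) (hYw : Y * w = w * Y) : b * (X * Y⁻¹) = X * Y⁻¹ * b := by
  have h1 : Y⁻¹ * w = w * Y⁻¹ := by
    rw [inv_mul_eq_iff_eq_mul, ← mul_assoc, hYw, mul_inv_cancel_right]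
  have h2 : Y⁻¹ * (b * w) = b * Y⁻¹ := by
    rw [inv_mul_eq_iff_eq_mul, ← mul_assoc, hY, mul_inv_cancel_right]
  apply mul_right_cancel (b := w)
  calc b * (X * Y⁻¹) * w = b * X * (Y⁻¹ * w) := by group
    _ = b * (X * w) * Y⁻¹ := by rw [h1]; group
    _ = (b * w * X) * Y⁻¹ := by rw [hXw]; group
    _ = X * (b * Y⁻¹) := by rw [← hX]; group
    _ = X * Y⁻¹ * b * w := by rw [← h2]; group

/-- `b` centralises the commutators of `C(z)` -/
theorem comm_b {x y : Equiv.Perm GolayPt} (hx : x ∈ D22) (hy : y ∈ D22) (hxz : x * z = z * x)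
    (hyz : y * z = z * y) : b * (x * y * x⁻¹ * y⁻¹) = x * y * x⁻¹ * y⁻¹ * b := by
  have h1 : ∃ w, (w = 1 ∨ w = z) ∧ x * b = b * w * x := by
    rcases (hb hx hxz).2 with h | h
    · exact ⟨1, Or.inl rfl, by rw [mul_one]; exact h⟩
    · exact ⟨z, Or.inr rfl, h⟩
  have h2 : ∃ w, (w = 1 ∨ w = z) ∧ y * b = b * w * y := by
    rcases (hb hy hyz).2 with h | h
    · exact ⟨1, Or.inl rfl, by rw [mul_one]; exact h⟩
    · exact ⟨z, Or.inr rfl, h⟩
  obtain ⟨w, hw, h1⟩ := h1
  obtain ⟨w', hw', h2⟩ := h2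
  have hxw : ∀ u, (u = 1 ∨ u = z) → x * u = u * x := by
    rintro u (rfl | rfl)
    · group
    · exact hxz
  have hyw : ∀ u, (u = 1 ∨ u = z) → y * u = u * y := by
    rintro u (rfl | rfl)
    · group
    · exact hyz
  have hbw : ∀ u, (u = 1 ∨ u = z) → u * b = b * u := by
    rintro u (rfl | rfl)
    · group
    · exact b_comm_z.symm
  have hww : w * w' = w' * w := by
    rcases hw with rfl | rfl <;> rcases hw' with rfl | rfl <;> group
  have hX := mulw h1 h2 (hxw _ hw') (hbw _ hw') hww
  have hY := mulw h2 h1 (hyw _ hw) (hbw _ hw) hww.symm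
  rw [← hww] at hY
  have e : x * y * x⁻¹ * y⁻¹ = (x * y) * (y * x)⁻¹ := by group
  rw [e]
  apply commw hX hY
  · rw [mul_assoc, ← mul_assoc y, hyw _ hw, mul_assoc w, hyw _ hw', ← mul_assoc, hxw _ hw]
    simp only [mul_assoc]
    rw [← mul_assoc x w', hxw _ hw']
    simp only [mul_assoc]
  · rw [mul_assoc, ← mul_assoc x, hxw _ hw, mul_assoc w, hxw _ hw', ← mul_assoc, hyw _ hw]
    simp only [mul_assoc]
    rw [← mul_assoc y w', hyw _ hw']
    simp only [mul_assoc]

/-- an element of `V` commuting with the commutators of `C(z)` lies in `⟨z⟩` -/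
theorem cD {v : Equiv.Perm GolayPt} (hv : v ∈ V) (h : ∀ x ∈ D22, ∀ y ∈ D22, x * z = z * x →
    y * z = z * y → v * (x * y * x⁻¹ * y⁻¹) = x * y * x⁻¹ * y⁻¹ * v) : v = 1 ∨ v = z := by
  obtain ⟨P, hP, rfl⟩ := hv
  have p0 : isPerm x0P = true ∧ isPerm y0P = true ∧ isPerm g0P = true := by decide +kernel
  have p1 : isPerm x1P = true ∧ isPerm y1P = true ∧ isPerm g1P = true := by decide +kernel
  have k : (VL.all fun P => weq [P] [] || (weq [P] [zP] || (!weq [P, g0P] [g0P, P] ||
      !weq [P, g1P] [g1P, P]))) = true := by decide +kernel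
  have h1 := List.all_eq_true.1 k P hP
  rw [Bool.or_eq_true, Bool.or_eq_true, Bool.or_eq_true, Bool.not_eq_true', Bool.not_eq_true'] at h1
  have key : ∀ X Y G, isPerm X = true → isPerm Y = true → isPerm G = true → isAut X = true →
      isAut Y = true → (papp X 23 = 23 ∧ papp X 0 = 0 ∨ papp X 23 = 0 ∧ papp X 0 = 23) →
      (papp Y 23 = 23 ∧ papp Y 0 = 0 ∨ papp Y 23 = 0 ∧ papp Y 0 = 23) →
      weq [X, zP] [zP, X] = true → weq [Y, zP] [zP, Y] = true → weq [G, Y, X] [X, Y] = true →
      weq [P, G] [G, P] = false → False := by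
    intro X Y G hX hY hG aX aY dX dY zX zY e hne
    have mem : ∀ X, isPerm X = true → isAut X = true →
        (papp X 23 = 23 ∧ papp X 0 = 0 ∨ papp X 23 = 0 ∧ papp X 0 = 23) → pm X ∈ D22 := by
      intro X hX aX dX
      rw [mem_D22_iff]
      refine ⟨pm_mem_M24 hX aX, ?_⟩
      have q23 := pt_val (pm X) 23
      have q0 := pt_val (pm X) 0
      rw [val_pm hX (by norm_num)] at q23 q0
      rcases dX with ⟨d1, d2⟩ | ⟨d1, d2⟩
      · rw [d1] at q23; rw [d2] at q0
        exact Or.inl ⟨q23.symm, q0.symm⟩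
      · rw [d1] at q23; rw [d2] at q0
        exact Or.inr ⟨q23.symm, q0.symm⟩
    have zX' := pr_of_weq (okl2 hX permz) (okl2 permz hX) zX
    have zY' := pr_of_weq (okl2 hY permz) (okl2 permz hY) zY
    have e' := pr_of_weq (okl3 hG hY hX) (okl2 hX hY) e
    rw [pr_two, pr_two] at zX' zY'
    rw [pr_three, pr_two] at e'
    have hGe : pm G = pm X * pm Y * (pm X)⁻¹ * (pm Y)⁻¹ := by
      rw [← e']; group
    apply pr_ne (okl2 (pV hP) hG) (okl2 hG (pV hP)) hne
    rw [pr_two, pr_two, hGe]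
    exact h _ (mem X hX aX dX) _ (mem Y hY aY dY) zX' zY'
  rcases h1 with h1 | h1 | h1 | h1
  · left
    have := pr_of_weq (okl1 (pV hP)) rfl h1
    rwa [pr_one, pr_nil] at this
  · right
    have := pr_of_weq (okl1 (pV hP)) (okl1 permz) h1
    rwa [pr_one, pr_one] at this
  · exact (key x0P y0P g0P p0.1 p0.2.1 p0.2.2 (by decide +kernel) (by decide +kernel) (by decide +kernel)
      (by decide +kernel) (by decide +kernel) (by decide +kernel) (by decide +kernel) h1).elim
  · exact (key x1P y1P g1P p1.1 p1.2.1 p1.2.2 (by decide +kernel) (by decide +kernel) (by decide +kernel)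
      (by decide +kernel) (by decide +kernel) (by decide +kernel) (by decide +kernel) h1).elim

/-- an element of `W` commuting with `N(W) ∩ C(z)` lies in `⟨z⟩` -/
theorem stab {r : Equiv.Perm GolayPt} (hr : r ∈ W) (h : ∀ k ∈ Spor.M22, (∀ x ∈ W, k * x * k⁻¹ ∈ W) →
    k * z = z * k → k * r = r * k) : r = 1 ∨ r = z := by
  by_cases hV : r ∈ V
  · have hc := h c c_mem22 cW (z_central c c_mem)
    apply Int.cen r (V_le hV)
    rintro _ ⟨v, hv, w, hw, rfl | rfl⟩
    · rw [mul_assoc, comm_of_El elW hw hr, ← mul_assoc, comm_of_El elV hv hV, mul_assoc]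
    · rw [mul_assoc, hc, ← mul_assoc, mul_assoc v, comm_of_El elW hw hr, ← mul_assoc,
        comm_of_El elV hv hV, mul_assoc r, mul_assoc r]
  · exfalso
    -- some `v ∈ V` outside `W` does not commute with `r`
    obtain ⟨v, hv, w, hw, hvw⟩ := z_comm
    have hvW : v ∉ W := by
      intro hvW
      have : v * w = w * v := comm_of_El elW hvW hw
      apply z1
      rw [← hvw, this]
      group
    have h1 := h v (V_le22 hv) (VW v hv) (z_central v (V_le hv))
    exact hV (cVW v hv hvW r hr h1)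

/-- `N(SA) ∩ C(V ∩ W) ≤ V P` -/
theorem nSA {k : Equiv.Perm GolayPt} (hk : k ∈ D22) (hN : Nrm k SA)
    (hC : ∀ x ∈ V, x ∈ W → k * x = x * k) : ∃ v ∈ V, ∃ w ∈ P, k = v * w := by
  have key : ∀ g ∈ Spor.M22, Nrm g SA → (∀ x ∈ V, x ∈ W → g * x = x * g) → ∃ v ∈ V, ∃ w ∈ W, g = v * w := by
    intro g hg hgN hgC
    apply mem_R.1
    apply nS (M22_le23 hg) _ hgC
    apply nrm_of
    intro x hx
    apply SA_M22 ((hgN x).2 (OutS.S_le hx))
    exact mul_mem (mul_mem hg (S_le22 hx)) (inv_mem hg)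
  by_cases h22 : k ∈ Spor.M22
  · obtain ⟨v, hv, w, hw, h⟩ := key k h22 hN hC
    exact ⟨v, hv, w, W_le_P hw, h⟩
  · have hbN : Nrm b SA := nrm_of fun x hx => mul_mem (mul_mem b_SA hx) (inv_mem b_SA)
    obtain ⟨v, hv, w, hw, h⟩ := key (k * b) (out_b hk h22) (nrm_mul hN hbN) (by
      intro x hV hW
      rw [mul_assoc, b_comm_W x hW, ← mul_assoc, hC x hV hW, mul_assoc])
    refine ⟨v, hv, w * b, mul_mem (W_le_P hw) b_mem, ?_⟩
    have e : k = k * b * b := by rw [mul_assoc, bb, mul_one]
    rw [e, h, mul_assoc]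

end Cfsg.Agent.KFacts.MM.OutC

end
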