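import Mathlib.Data.Nat.Notation
import Cfsg.Agent.KFacts.MM.Cent
import Cfsg.Agent.J4Type.Aut22

-- merged: Cfsg.Agent.KFacts.MM.DataO
section

/-!
# Packed permutations for `M22:2`: the involution `b ∈ C(W) - W` and a chain of the octad stabiliser in `M22`
-/

set_option autoImplicit false

namespace Cfsg.Agent.KFacts.MM.DataO

/-- an involution of `M22:2` outside `M22` centralising `W` -/
def bP : ℕ := 5989235823820259689967313196876887

/-- elements of `M22` preserving the octad, mapping 1 to its points -/
def T1 : List ℕ := [
  984818244535754528103549039458486304,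
  961360439503047023498727979389224000,
  961361717046248021432230046504892512,
  961113055178878765030242569745974432,
  961371847108530530539303909288119744,
  961249846278898572718642977709332000]

/-- the same, fixing 1, mapping 2 -/
def T2 : List ℕ := [
  984818244535754528103549039458486304,
  964046246854116924572671177954233376,
  965307795761740754361936628421170208,
  963559745903778623359417332224538656,
  963640518972357266310373335248618528]

/-- the same, fixing 1, 2, mapping 3 -/
def T3 : List ℕ := [
  984818244535754528103549039458486304,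
  960884477435128931241433760505432096,
  961438956620049001677386430328277024,
  960831283963798152912375878980765728]

/-- the same, fixing 1, 2, 3, mapping 5 -/
def T5 : List ℕ := [
  984818244535754528103549039458486304,
  961409415667826064667231448532617248,
  961029066359601346093702817927759904]

/-- an element of `M22:2` centralising `z` -/
def x0P : ℕ := 982899815665434390980925830645059008

/-- an element of `M22:2` centralising `z` -/
def y0P : ℕ := 26719882389304997286299517257811031

/-- their commutator -/
def g0P : ℕ := 964086483626486257377192165510288928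

/-- an element of `M22:2` centralising `z` -/
def x1P : ℕ := 26310806766238434697851665041098807

/-- an element of `M22:2` centralising `z` -/
def y1P : ℕ := 13801526156369960150811494621679063

/-- their commutator -/
def g1P : ℕ := 977058356712355062831575471803108800


/-- the 32 elements of `P = W⟨b⟩`; the first 16 are those of `W` -/
def PL : List ℕ := [
  984818244535754528103549039458486304,
  961365507626256404119956257276790816,
  972512676110088067912772961567868960,
  976448692869377735270425038196672544,
  960831283963798152912375878980765728,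
  960884477435128931241433760505432096,
  961438956620049001677386430328277024,
  972560815420533050926679905878345760,
  973054518210042674313238929715267616,
  973122887587861701392823884636653600,
  976420838754479978627774237199763488,
  976934804572108675034832543981668384,
  977023451795203591179182037798520864,
  984202951082164080105044112956360736,
  984235865005994746954145143334668320,
  984724508489452699215480746259449888,
  5989235823820259689967313196876887,
  29429271468893102754624345968411735,
  21064801546226450623669850930086999,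
  17131322563941782780614511264466007,
  28854523491105362182008475499005015,
  28826665701071936886111872293045335,
  29340620570662517957029049942508631,
  21031891374900343699909455052375127,
  21647169741103660076458455793304663,
  21553437447306391113730797094863959,
  17184519787777121035013027289728087,
  17739009920735306807106826245014615,
  17665557174438149324336018692932695,
  5495518024292395953547195890304087,
  5447382388983081592886053788877911,
  6057601526503618116306465909212247]

end Cfsg.Agent.KFacts.MM.DataO

end

-- merged: Cfsg.Agent.KFacts.MM.OutP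
section

/-!
# `M22:2` as the stabiliser `D22` of the duad `{none, some 0}` in `M24`: the subgroup `P = C(W)` of order 32

`b` is an involution of `P` outside `M22`.
-/

set_option autoImplicit false

namespace Cfsg.Agent.KFacts.MM.OutP

open Cfsg Cfsg.Agent.KFacts.MM.El Cfsg.Agent.KFacts.MM.Data Cfsg.Agent.KFacts.MM.DataO
open Cfsg.Agent.KFacts.MM.Sub Cfsg.Agent.KFacts.MM.Int Cfsg.Agent.KFacts.MM.El16
open Cfsg.Agent.KFacts.MM.Cent
open Cfsg.Agent.SporadicA.GolayBase Cfsg.Agent.SporadicA.GolayPerm
open Cfsg.Agent.J4Type.Aut22 (D22 mem_D22_iff M22_le_D22 mem_M22_iff_D22)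
open Cfsg.Agent.OddHalf.MM (Nrm Cen El)

theorem chkP : chk PL = true := by decide +kernel

/-- `P = C(W)` in `M22:2` -/
def P : Subgroup (Equiv.Perm GolayPt) := ofList PL chkP

/-- `b` -/
noncomputable def b : Equiv.Perm GolayPt := pm bP

theorem permb : isPerm bP = true := by decide +kernel

theorem pP {Q : ℕ} (h : Q ∈ PL) : isPerm Q = true := okl_of chkP h

theorem b_mem : b ∈ P := ⟨bP, by decide +kernel, rfl⟩

theorem W_le_P : W ≤ P := by
  rintro _ ⟨Q, hQ, rfl⟩
  have h : (WL.all fun Q => PL.any fun R => Nat.beq Q R) = true := by decide +kernel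
  obtain ⟨R, hR, h2⟩ := List.any_eq_true.1 (List.all_eq_true.1 h Q hQ)
  rw [Nat.eq_of_beq_eq_true h2]
  exact ⟨R, hR, rfl⟩

theorem cardP : Nat.card P = 32 := card_ofList chkP (by decide +kernel)

theorem elP : El P := el_ofList chkP

theorem bb : b * b = 1 := elP b b_mem

theorem b_inv : b⁻¹ = b := inv_eq_of_mul_eq_one_left bb

/-- an element of `P` lies in `W` or in `Wb` -/
theorem mem_P {x : Equiv.Perm GolayPt} : x ∈ P ↔ ∃ w ∈ W, x = w ∨ x = w * b := by
  constructor
  · rintro ⟨Q, hQ, rfl⟩
    have h : (PL.all fun Q => WL.any fun R => weq [Q] [R] || weq [Q] [R, bP]) = true := by decide +kernel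
    obtain ⟨R, hR, h2⟩ := List.any_eq_true.1 (List.all_eq_true.1 h Q hQ)
    rw [Bool.or_eq_true] at h2
    refine ⟨pm R, ⟨R, hR, rfl⟩, ?_⟩
    rcases h2 with h2 | h2
    · left
      have := pr_of_weq (okl1 (pP hQ)) (okl1 (pW hR)) h2
      rwa [pr_one, pr_one] at this
    · right
      have := pr_of_weq (okl1 (pP hQ)) (okl2 (pW hR) permb) h2
      rwa [pr_one, pr_two] at this
  · rintro ⟨w, hw, rfl | rfl⟩
    · exact W_le_P hw
    · exact mul_mem (W_le_P hw) b_mem

theorem b_none : b none = some 0 := by
  have h1 : val b 23 = 0 := by
    unfold b
    rw [val_pm permb (by norm_num)]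
    decide +kernel
  have h2 := pt_val b 23
  rw [h1] at h2
  exact h2.symm

theorem b_zero : b (some 0) = none := by
  have h1 : val b 0 = 23 := by
    unfold b
    rw [val_pm permb (by norm_num)]
    decide +kernel
  have h2 := pt_val b 0
  rw [h1] at h2
  exact h2.symm

theorem b_D22 : b ∈ D22 := by
  rw [mem_D22_iff]
  refine ⟨pm_mem_M24 permb (by decide +kernel), Or.inr ⟨b_none, b_zero⟩⟩

theorem b_not_M22 : b ∉ Spor.M22 := by
  intro h
  have h1 := ((SporadicA.MathieuRecog.mem_M22_iff _).1 h).2.1
  rw [b_none] at h1
  cases h1

/-- an element of `M22:2` outside `M22` lies in `M22 b` -/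
theorem out_b {g : Equiv.Perm GolayPt} (hg : g ∈ D22) (h : g ∉ Spor.M22) : g * b ∈ Spor.M22 := by
  rw [SporadicA.MathieuRecog.mem_M22_iff] at h ⊢
  have h1 := (mem_D22_iff g).1 hg
  have h2 : g none = some 0 ∧ g (some 0) = none := by
    rcases h1.2 with h3 | h3
    · exact absurd ⟨h1.1, h3⟩ h
    · exact h3
  refine ⟨mul_mem h1.1 ((mem_D22_iff b).1 b_D22).1, ?_, ?_⟩
  · rw [Equiv.Perm.mul_apply, b_none, h2.2]
  · rw [Equiv.Perm.mul_apply, b_zero, h2.1]

theorem P_le : P ≤ D22 := by
  intro x hx
  obtain ⟨w, hw, rfl | rfl⟩ := mem_P.1 hx
  · exact M22_le_D22 (W_le22 hw)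
  · exact mul_mem (M22_le_D22 (W_le22 hw)) b_D22

theorem PK {x : Equiv.Perm GolayPt} (hx : x ∈ P) (hK : x ∈ Spor.M22) : x ∈ W := by
  obtain ⟨w, hw, rfl | rfl⟩ := mem_P.1 hx
  · exact hw
  · exfalso
    apply b_not_M22
    have := mul_mem (inv_mem (W_le22 hw)) hK
    rwa [inv_mul_cancel_left] at this

/-- `C(W) = P` in `M22:2` -/
theorem CW' {k : Equiv.Perm GolayPt} (hk : k ∈ D22) (h : Cen k W) : k ∈ P := by
  by_cases hK : k ∈ Spor.M22
  · exact W_le_P (CW (M22_le23 hK) h)
  · have h1 := out_b hk hK
    have h2 : k * b ∈ W := by
      apply CW (M22_le23 h1)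
      intro x hx
      have h3 := h x hx
      have h4 : b * x = x * b := comm_of_El elP b_mem (W_le_P hx)
      rw [mul_assoc, h4, ← mul_assoc, h3, mul_assoc]
    have h3 := mul_mem (W_le_P h2) b_mem
    rwa [mul_assoc, bb, mul_one] at h3

end Cfsg.Agent.KFacts.MM.OutP

end
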