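import Mathlib.Data.Nat.Notation
import Cfsg.Agent.KFacts.MM.OutP
import Cfsg.Agent.KFacts.MM.InvM22
import Cfsg.Agent.KFacts.MM.Tr

-- merged: Cfsg.Agent.KFacts.MM.DataT
section

/-!
# Packed permutations for `M22:2`: the normaliser of `W`, the centralisers of the outer involutions (helper969)
-/

set_option autoImplicit false

namespace Cfsg.Agent.KFacts.MM.DataT

/-- the number of the tetrad (orbit of `W`) of a point; 5 for the fixed points of `W` -/
def TP : ℕ := 209076231740185045780185887947101349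

/-- the least points of the five tetrads -/
def RP : ℕ := 9705603

/-- the elements of `P - W` -/
def PO : List ℕ := [
  5989235823820259689967313196876887,
  29429271468893102754624345968411735,
  21064801546226450623669850930086999,
  17131322563941782780614511264466007,
  28854523491105362182008475499005015,
  28826665701071936886111872293045335,
  29340620570662517957029049942508631,
  21031891374900343699909455052375127,
  21647169741103660076458455793304663,
  21553437447306391113730797094863959,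
  17184519787777121035013027289728087,
  17739009920735306807106826245014615,
  17665557174438149324336018692932695,
  5495518024292395953547195890304087,
  5447382388983081592886053788877911,
  6057601526503618116306465909212247]

/-- an element of `P - W` without fixed points -/
def u2P : ℕ := 5447382388983081592886053788877911

/-- an element of order 5 of `N(W)` in `M22` -/
def rP : ℕ := 959449886935636548669869254602524704

/-- an element of `N(W)` in `M22` which raises `rP` to the square -/
def kP : ℕ := 960156844637388059427706288353838144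

/-- an element of `N(W)` in `M22` which swaps the first two tetrads and normalises the others -/
def sP : ℕ := 959533209778603715432472845914473536

/-- for each involution of `S5`, an involution of `N(W)` in `M22` inducing it on the five tetrads -/
def iL : List ℕ := [
  961360439503047023498727979389224000,
  972715533645191023441926575607612480,
  976768299277413956938701513523627072,
  963839644230695854477674691221881920,
  963721886883755259286232606933354528,
  966644684235801628085642631091160128,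
  966182099583441531322624363496310816,
  967933930814660160276170748135048256,
  967812279691448225500382947153381408,
  960073776451580533733545039064925248,
  960139612709388908960211975096961056,
  959789712551549311357050337837647904,
  959894609041950200578829698494826528,
  960722543430447394230161524690420800,
  984085346507332711729061765015308320,
  965995967454161196873229362941626400,
  967775751955048358589096069482874912,
  976414972272889346176013788271477824,
  984314827592033236074561707266279456,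
  963845622359010745715224433038559264,
  967922996129322142687065624027695136,
  972560062960302233497009465070158912,
  984286808134369956147200099073951776,
  963340202643419566591574436190914592,
  966623649198841443070280019297830944]

/-- for each element of `PO`, an element of order 3 or 5 of `N(W)` in `M22`, with this element as only nontrivial fixed point in `P` -/
def oL : List ℕ := [
  959451406792695100653932515533883424,
  960825417957425906109012642839791648,
  959652680249073646757185154201126944,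
  959606934175505074920146850068760608,
  960723930279081571572176547144665120,
  960708228356463539651157491033933856,
  960926506856767834694378421742635040,
  963553234422601883531560454677104672,
  959546424091802735619329752133011488,
  959628724913217878596395598182942752,
  963515095949177277443875056653535264,
  959541291487346198440771668227196960,
  959647418736642719728129113751881760,
  959449886935636548669869254602524704,
  959466258819894471141815571478579232,
  966039336168793943308839874394687520]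

/-- elements of `M24` centralising `bP`, mapping 23 to each point moved by `bP` -/
def c1L : List ℕ := [
  6055071181017011428787402404464695,
  70351105155508323366877919011341026,
  104064660971431293985773203488200833,
  134564417965522941103616412846097486,
  166219510656961221637845561613327574,
  232543779375815177256758715071170609,
  268200223933998884317804704977519687,
  309007682934668401711242498849001126,
  542742646337963630384820767669541008,
  610645700039170093514306231153460291,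
  668075450537781972124911302052272269,
  734319750742971699777721279993448485,
  811484882469064364821404297628555509,
  878456535442244873395376356417707219,
  944404988958070502557438032545777700,
  984818244535754528103549039458486304]

/-- elements of `M24` centralising `u2P`, mapping 23 to each point -/
def c2L : List ℕ := [
  20223332924286470352933277995271255,
  56190292943117779984790267479130850,
  100529893421594274480770870755843073,
  145045945125483310862125371107129893,
  166604252592666328821341421152384534,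
  217132532131882699634514635720571427,
  267585218442354277274902697169919605,
  297322402960204278334514270578023091,
  350644225093489965336788593643138450,
  397523385530678824927981506262116852,
  440576662319495188114383019852572303,
  461654661260271498422890296543748684,
  518516199355691416991197435399489803,
  558931696256880765820073423631192784,
  591949822542676541043578886747788401,
  631786183099850286159367069079523626,
  667541486340208431663456102754080909,
  727294661384066402612404048243002542,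
  766702128455149082319453961762287976,
  806158243881163204562449897433406119,
  851683022415496246722551610198043113,
  891434823939487121272459366256528614,
  914553072499792485562693271025825284,
  984818244535754528103549039458486304]

end Cfsg.Agent.KFacts.MM.DataT

end

-- merged: Cfsg.Agent.KFacts.MM.OutT
section

/-!
# `M22:2`: the outer involutions, the action of `N(W)` on the five tetrads (helper969)

Ambient forms of the fields `idx`, `invO`, `invL`, `odd`, `five`, `s5` of `Cfsg.Agent.OddHalf.MMOut.Sheet`.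
-/

set_option autoImplicit false
set_option Elab.async false

namespace Cfsg.Agent.KFacts.MM.OutT

open Cfsg Cfsg.Agent.KFacts.MM.El Cfsg.Agent.KFacts.MM.Data Cfsg.Agent.KFacts.MM.DataO
open Cfsg.Agent.KFacts.MM.DataT Cfsg.Agent.KFacts.MM.Sub Cfsg.Agent.KFacts.MM.Int
open Cfsg.Agent.KFacts.MM.El16 Cfsg.Agent.KFacts.MM.Cent Cfsg.Agent.KFacts.MM.OutP
open Cfsg.Agent.SporadicA.GolayBase Cfsg.Agent.SporadicA.GolayPerm
open Cfsg.Agent.SporadicStructure.M24El
open Cfsg.Agent.J4Type.Aut22 (D22 mem_D22_iff M22_le_D22 mem_M22_iff_D22)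
open Cfsg.Agent.OddHalf.MM (Nrm Cen El)

/-! ### Elements outside `M22` -/

theorem swap_of {g : Equiv.Perm GolayPt} (hg : g ∈ D22) (h : g ∉ Spor.M22) :
    g none = some 0 ∧ g (some 0) = none := by
  rw [SporadicA.MathieuRecog.mem_M22_iff] at h
  have h1 := (mem_D22_iff g).1 hg
  rcases h1.2 with h3 | h3
  · exact absurd ⟨h1.1, h3⟩ h
  · exact h3

theorem isPerm_of_ok {P : ℕ} (h : ok P = true) : isPerm P = true := (ok_iff.1 h).1

theorem pm_mem {P : ℕ} (h : ok P = true) : pm P ∈ M24 := pm_mem_M24 (ok_iff.1 h).1 (ok_iff.1 h).2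

theorem pt_zero : pt 0 = (some 0 : GolayPt) := by
  unfold pt
  simp

theorem pm_pt {P : ℕ} (h : isPerm P = true) {i : ℕ} (hi : i < 24) : pm P (pt i) = pt (papp P i) := by
  rw [← pt_val, val_pm h hi]

theorem P1_fix : (pts.any fun i => Nat.beq (papp J4.M24InvolData.P1 i) i) = true := by
  decide +kernel

/-- an involution of `M24` without fixed points is conjugate to `el P2` -/
theorem conj_P2 {u : Equiv.Perm GolayPt} (hu : u ∈ M24) (h2 : u * u = 1) (hf : ∀ p, u p ≠ p) :
    ∃ g ∈ M24, g * u * g⁻¹ = ((el J4.M24InvolData.P2 : M24) : Equiv.Perm GolayPt) := by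
  have h1 : u ≠ 1 := by
    rintro rfl
    exact hf none rfl
  obtain ⟨g, hg | hg⟩ := J4.M24Invol.invol_conj ⟨u, hu⟩ (Subtype.ext h2)
    (fun e => h1 (congrArg Subtype.val e))
  · exfalso
    have hg' : (g : Equiv.Perm GolayPt) * u * (g : Equiv.Perm GolayPt)⁻¹ =
      ((el J4.M24InvolData.P1 : M24) : Equiv.Perm GolayPt) := congrArg Subtype.val hg
    obtain ⟨i, hi, h3⟩ := List.any_eq_true.1 P1_fix
    have h4 := pm_pt (isPerm_of_ok J4.M24Invol.ok_P1) (lt_of_mem_pts hi)
    rw [Nat.eq_of_beq_eq_true h3, ← Cfsg.Agent.KFacts.MM.El.coe_el J4.M24Invol.ok_P1, ← hg'] at h4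
    apply hf ((g : Equiv.Perm GolayPt)⁻¹ (pt i))
    have h5 : (g : Equiv.Perm GolayPt) (u ((g : Equiv.Perm GolayPt)⁻¹ (pt i))) = pt i := h4
    rw [Equiv.Perm.eq_inv_iff_eq]
    exact h5
  · exact ⟨g, g.2, congrArg Subtype.val hg⟩

/-- the test for the tables -/
def row (Q i P : ℕ) : Bool := ok P && (weq [P, Q] [Q, P] && Nat.beq (papp P 23) i)

/-- adjusting the conjugating element -/
theorem adj {a x : Equiv.Perm GolayPt} {Q : ℕ} {L : List ℕ} (hQ : isPerm Q = true)
    (h23 : papp Q 23 = 0) (hL : (pts.all fun i => Nat.beq (papp Q i) i || L.any (row Q i)) = true)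
    (hx : x ∈ M24) (e : a = x * pm Q * x⁻¹) (h1 : a none = some 0) :
    ∃ g ∈ Spor.M22, a = g * pm Q * g⁻¹ := by
  have hlt := idx_lt (x⁻¹ none)
  have e1 : a * x = x * pm Q := by rw [e]; group
  have hQp : pm Q (x⁻¹ none) = x⁻¹ (some 0) := by
    have h3 : x (pm Q (x⁻¹ none)) = a (x (x⁻¹ none)) := by
      show (x * pm Q) (x⁻¹ none) = (a * x) (x⁻¹ none)
      rw [e1]
    rw [show x (x⁻¹ none) = none from x.apply_symm_apply none, h1] at h3
    rw [← h3]
    exact (x.symm_apply_apply _).symm
  have hne : papp Q (idx (x⁻¹ none)) ≠ idx (x⁻¹ none) := by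
    intro h
    have h3 : pm Q (x⁻¹ none) = x⁻¹ none := by
      have h4 := pm_pt hQ hlt
      rw [h, pt_idx] at h4
      exact h4
    rw [hQp] at h3
    have := x⁻¹.injective h3
    cases this
  have h4 := List.all_eq_true.1 hL _ (mem_pts hlt)
  rw [Bool.or_eq_true] at h4
  rcases h4 with h4 | h4
  · exact absurd (Nat.eq_of_beq_eq_true h4) hne
  obtain ⟨P, -, hP⟩ := List.any_eq_true.1 h4
  unfold row at hP
  rw [Bool.and_eq_true, Bool.and_eq_true] at hP
  obtain ⟨hok, hw, hv⟩ := hP
  have hv := Nat.eq_of_beq_eq_true hv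
  have hp := isPerm_of_ok hok
  have hc := pr_of_weq (okl2 hp hQ) (okl2 hQ hp) hw
  rw [pr_two, pr_two] at hc
  have hPn : pm P none = x⁻¹ none := by
    have h6 : pm P (pt 23) = pt (papp P 23) := pm_pt hp (by norm_num)
    rw [hv, pt_idx] at h6
    exact h6
  have hQn : pm Q none = some 0 := by
    have h6 : pm Q (pt 23) = pt (papp Q 23) := pm_pt hQ (by norm_num)
    rw [h23, pt_zero] at h6
    exact h6
  have hP0 : pm P (some 0) = x⁻¹ (some 0) := by
    calc pm P (some 0) = pm P (pm Q none) := by rw [hQn]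
      _ = (pm P * pm Q) none := rfl
      _ = (pm Q * pm P) none := by rw [hc]
      _ = pm Q (pm P none) := rfl
      _ = x⁻¹ (some 0) := by rw [hPn, hQp]
  refine ⟨x * pm P, (SporadicA.MathieuRecog.mem_M22_iff _).2 ⟨mul_mem hx (pm_mem hok), ?_, ?_⟩, ?_⟩
  · rw [Equiv.Perm.mul_apply, hPn]
    exact x.apply_symm_apply _
  · rw [Equiv.Perm.mul_apply, hP0]
    exact x.apply_symm_apply _
  · have h3 : (x * pm P) * pm Q * (x * pm P)⁻¹ = x * (pm P * pm Q * (pm P)⁻¹) * x⁻¹ := by group
    rw [h3, hc, mul_assoc (pm Q) (pm P), mul_inv_cancel, mul_one, e]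

theorem ok_b : ok bP = true := by decide +kernel
theorem ok_u : ok u2P = true := by decide +kernel
theorem tab1 : (pts.all fun i => Nat.beq (papp bP i) i || c1L.any (row bP i)) = true := by
  decide +kernel
theorem tab2 : (pts.all fun i => Nat.beq (papp u2P i) i || c2L.any (row u2P i)) = true := by
  decide +kernel

theorem out_of {Q : ℕ} (hQ : Q ∈ PL) (h : WL.all (fun R => !weq [Q] [R]) = true) : pm Q ∉ W := by
  rintro ⟨R, hR, h1⟩
  have h2 := List.all_eq_true.1 h R hR
  rw [Bool.not_eq_true'] at h2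
  apply pr_ne (okl1 (pP hQ)) (okl1 (pW hR)) h2
  rw [pr_one, pr_one, h1]

/-- every involution of `M22:2` outside `M22` is conjugate to an element of `P - W` -/
theorem invO {a : Equiv.Perm GolayPt} (ha : a ∈ D22) (hK : a ∉ Spor.M22) (h2 : a * a = 1) :
    ∃ g ∈ Spor.M22, ∃ w ∈ P, w ∉ W ∧ a = g * w * g⁻¹ := by
  have h1 := swap_of ha hK
  have hM := ((mem_D22_iff a).1 ha).1
  have hne : a ≠ 1 := by
    rintro rfl
    exact hK (one_mem _)
  have hinv : ∀ {g k x y c : Equiv.Perm GolayPt}, g * x * g⁻¹ = c → k * y * k⁻¹ = c →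
      x = (g⁻¹ * k) * y * (g⁻¹ * k)⁻¹ := by
    intro g k x y c h h'
    calc x = g⁻¹ * (g * x * g⁻¹) * g := by group
      _ = g⁻¹ * (k * y * k⁻¹) * g := by rw [h, h']
      _ = _ := by group
  by_cases hf : ∃ p, a p = p
  · obtain ⟨p, hp⟩ := hf
    obtain ⟨g, hg, e⟩ := InvM22.conj_P1 hM h2 hne hp
    have hb : pm bP ∈ M24 := pm_mem ok_b
    have hb3 : pm bP (pt 1) = pt 1 ∨ pm bP (pt 6) = pt 6 ∨ pm bP (pt 8) = pt 8 := by
      have h3 : papp bP 1 = 1 ∨ papp bP 6 = 6 ∨ papp bP 8 = 8 := by decide +kernel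
      rcases h3 with h3 | h3 | h3
      · left
        rw [pm_pt permb (by norm_num), h3]
      · right; left
        rw [pm_pt permb (by norm_num), h3]
      · right; right
        rw [pm_pt permb (by norm_num), h3]
    have hb1 : pm bP ≠ 1 := by
      intro h
      apply b_not_M22
      show pm bP ∈ Spor.M22
      rw [h]
      exact one_mem _
    obtain ⟨k, hk, e'⟩ : ∃ k ∈ M24, k * pm bP * k⁻¹ =
        ((el J4.M24InvolData.P1 : M24) : Equiv.Perm GolayPt) := by
      rcases hb3 with h3 | h3 | h3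
      · exact InvM22.conj_P1 hb bb hb1 h3
      · exact InvM22.conj_P1 hb bb hb1 h3
      · exact InvM22.conj_P1 hb bb hb1 h3
    obtain ⟨y, hy, e2⟩ := adj (isPerm_of_ok ok_b) (by decide +kernel) tab1
      (mul_mem (inv_mem hg) hk) (hinv e e') h1.1
    exact ⟨y, hy, pm bP, b_mem, out_of (by decide +kernel) (by decide +kernel), e2⟩
  · obtain ⟨g, hg, e⟩ := conj_P2 hM h2 (fun p hp => hf ⟨p, hp⟩)
    have hu : u2P ∈ PL := by decide +kernel
    have hfix : (pts.all fun i => !Nat.beq (papp u2P i) i) = true := by decide +kernel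
    obtain ⟨k, hk, e'⟩ := conj_P2 (pm_mem ok_u) (elP _ ⟨u2P, hu, rfl⟩) (by
      intro p hp
      have h3 := List.all_eq_true.1 hfix (idx p) (mem_pts (idx_lt p))
      rw [Bool.not_eq_true'] at h3
      have h4 := pm_pt (isPerm_of_ok ok_u) (idx_lt p)
      rw [pt_idx, hp] at h4
      have h5 : idx p = papp u2P (idx p) := by
        conv_lhs => rw [h4]
        exact idx_pt (papp_lt (isPerm_of_ok ok_u) (idx_lt p))
      rw [← h5, Nat.beq_refl] at h3
      cases h3)
    obtain ⟨y, hy, e2⟩ := adj (isPerm_of_ok ok_u) (by decide +kernel) tab2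
      (mul_mem (inv_mem hg) hk) (hinv e e') h1.1
    exact ⟨y, hy, pm u2P, ⟨u2P, hu, rfl⟩, out_of hu (by decide +kernel), e2⟩

end Cfsg.Agent.KFacts.MM.OutT

end

-- merged: Cfsg.Agent.KFacts.MM.OutN
section

/-!
# `M22:2`: the action of `N(W)` on the five tetrads (helper969)

`T i` : the number of the tetrad (orbit of `W`) of the point of index `i` (5 for the fixed points of `W`);
`rp j` : the least point of the tetrad `j < 5`.
-/

set_option autoImplicit false
set_option Elab.async false

namespace Cfsg.Agent.KFacts.MM.OutN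

open Cfsg Cfsg.Agent.KFacts.MM.El Cfsg.Agent.KFacts.MM.Data Cfsg.Agent.KFacts.MM.DataO
open Cfsg.Agent.KFacts.MM.DataT Cfsg.Agent.KFacts.MM.Sub Cfsg.Agent.KFacts.MM.Int
open Cfsg.Agent.KFacts.MM.El16 Cfsg.Agent.KFacts.MM.Cent Cfsg.Agent.KFacts.MM.OutP
open Cfsg.Agent.KFacts.MM.OutT
open Cfsg.Agent.SporadicA.GolayBase Cfsg.Agent.SporadicA.GolayPerm
open Cfsg.Agent.J4Type.Aut22 (D22 mem_D22_iff M22_le_D22 mem_M22_iff_D22)
open Cfsg.Agent.OddHalf.MM (Nrm Cen El)
open scoped Pointwise

/-- the number of the tetrad -/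
def T (i : ℕ) : ℕ := papp TP i

/-- the least point of a tetrad -/
def rp (j : ℕ) : ℕ := papp RP j

theorem T_le {i : ℕ} (hi : i < 24) : T i ≤ 5 := by
  have h : (pts.all fun i => Nat.ble (T i) 5) = true := by decide +kernel
  exact Nat.le_of_ble_eq_true (List.all_eq_true.1 h i (mem_pts hi))

theorem W_T {P : ℕ} (hP : P ∈ PL) {i : ℕ} (hi : i < 24) : T (papp P i) = T i := by
  have h : (PL.all fun P => pts.all fun i => Nat.beq (T (papp P i)) (T i)) = true := by decide +kernel
  exact Nat.eq_of_beq_eq_true (List.all_eq_true.1 (List.all_eq_true.1 h P hP) i (mem_pts hi))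

theorem WP {P : ℕ} (hP : P ∈ WL) : P ∈ PL := by
  have h : (WL.all fun Q => PL.any fun R => Nat.beq Q R) = true := by decide +kernel
  obtain ⟨R, hR, h2⟩ := List.any_eq_true.1 (List.all_eq_true.1 h P hP)
  rw [Nat.eq_of_beq_eq_true h2]
  exact hR

theorem W_tr {i j : ℕ} (hi : i < 24) (hj : j < 24) (h : T i = T j) (h5 : T i ≠ 5) :
    ∃ P ∈ WL, papp P i = j := by
  have h0 : (pts.all fun i => pts.all fun j => Nat.beq (T i) 5 || (!Nat.beq (T i) (T j) ||
      WL.any fun P => Nat.beq (papp P i) j)) = true := by decide +kernel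
  have h1 := List.all_eq_true.1 (List.all_eq_true.1 h0 i (mem_pts hi)) j (mem_pts hj)
  rw [Bool.or_eq_true, Bool.or_eq_true] at h1
  rcases h1 with h1 | h1 | h1
  · exact absurd (Nat.eq_of_beq_eq_true h1) h5
  · rw [← h, Nat.beq_refl] at h1
    cases h1
  · obtain ⟨P, hP, h2⟩ := List.any_eq_true.1 h1
    exact ⟨P, hP, Nat.eq_of_beq_eq_true h2⟩

theorem W_fix {i : ℕ} (hi : i < 24) (h : T i = 5) {P : ℕ} (hP : P ∈ WL) : papp P i = i := by
  have h0 : (pts.all fun i => !Nat.beq (T i) 5 || WL.all fun P => Nat.beq (papp P i) i) = true := by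
    decide +kernel
  have h1 := List.all_eq_true.1 h0 i (mem_pts hi)
  rw [h, Nat.beq_refl, Bool.not_true, Bool.false_or] at h1
  exact Nat.eq_of_beq_eq_true (List.all_eq_true.1 h1 P hP)

theorem W_mv {i : ℕ} (hi : i < 24) (h : T i ≠ 5) : ∃ P ∈ WL, papp P i ≠ i := by
  have h0 : (pts.all fun i => Nat.beq (T i) 5 || WL.any fun P => !Nat.beq (papp P i) i) = true := by
    decide +kernel
  have h1 := List.all_eq_true.1 h0 i (mem_pts hi)
  rw [Bool.or_eq_true] at h1
  rcases h1 with h1 | h1
  · exact absurd (Nat.eq_of_beq_eq_true h1) h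
  · obtain ⟨P, hP, h2⟩ := List.any_eq_true.1 h1
    refine ⟨P, hP, fun h3 => ?_⟩
    rw [h3, Nat.beq_refl] at h2
    cases h2

theorem rp_lt {j : ℕ} (hj : j < 5) : rp j < 24 := by
  have h : ∀ j < 5, rp j < 24 := by decide +kernel
  exact h j hj

theorem T_rp {j : ℕ} (hj : j < 5) : T (rp j) = j := by
  have h : ∀ j < 5, T (rp j) = j := by decide +kernel
  exact h j hj

section nrm

variable {g : Equiv.Perm GolayPt} (hg : Nrm g W)

include hg

/-- the conjugate of an element of `W` -/
theorem conj_val {P : ℕ} (hP : P ∈ WL) : ∃ R ∈ WL, ∀ i < 24, val g (papp P i) = papp R (val g i) := by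
  have hPW : pm P ∈ W := ⟨P, hP, rfl⟩
  obtain ⟨R, hR, h⟩ := (hg (pm P)).2 hPW
  refine ⟨R, hR, fun i hi => ?_⟩
  rw [← val_pm (pW hP) hi, ← val_mul, ← val_pm (pW hR) (val_lt g i), ← val_mul, h]
  congr 1
  group

theorem T_ne {i : ℕ} (hi : i < 24) (h5 : T i ≠ 5) : T (val g i) ≠ 5 := by
  intro h
  obtain ⟨P, hP, h1⟩ := W_mv hi h5
  obtain ⟨R, hR, h2⟩ := conj_val hg hP
  apply h1
  have h3 := h2 i hi
  rw [W_fix (val_lt g i) h hR] at h3
  exact val_inj (papp_lt (pW hP) hi) hi h3

theorem T_congr {i j : ℕ} (hi : i < 24) (hj : j < 24) (h5 : T i ≠ 5) (h : T i = T j) :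
    T (val g i) = T (val g j) := by
  obtain ⟨P, hP, h1⟩ := W_tr hi hj h h5
  obtain ⟨R, hR, h2⟩ := conj_val hg hP
  rw [← h1, h2 i hi, W_T (WP hR) (val_lt g i)]

theorem T_lt {j : ℕ} (hj : j < 5) : T (val g (rp j)) < 5 := by
  have h1 := T_le (val_lt g (rp j))
  have h2 := T_ne hg (rp_lt hj) (by rw [T_rp hj]; omega)
  omega

end nrm

/-! ### The kernel -/

/-- the octads through `23, 0, 4, 6` and `13`, `16`, `22` -/
def om (x : ℕ) : ℕ := match x with
  | 13 => 2 ^ 0 + 2 ^ 4 + 2 ^ 6 + 2 ^ 13 + 2 ^ 15 + 2 ^ 20 + 2 ^ 21 + 2 ^ 23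
  | 16 => 2 ^ 0 + 2 ^ 4 + 2 ^ 6 + 2 ^ 8 + 2 ^ 16 + 2 ^ 18 + 2 ^ 19 + 2 ^ 23
  | _ => 2 ^ 0 + 2 ^ 3 + 2 ^ 4 + 2 ^ 6 + 2 ^ 7 + 2 ^ 14 + 2 ^ 22 + 2 ^ 23

/-- the five common points -/
def fm (x : ℕ) : ℕ := 2 ^ 0 + 2 ^ 4 + 2 ^ 6 + 2 ^ 23 + 2 ^ x

theorem om_oct {x : ℕ} (hx : x ∈ [13, 16, 22]) : fin (om x) ∈ octads := by
  have h : ∀ x ∈ [13, 16, 22], om x < 2 ^ 24 ∧ isCode (om x) = true ∧ popcount (om x) = 8 := by
    decide +kernel
  obtain ⟨h1, h2, h3⟩ := h x hx
  exact (fin_mem_octads_iff h1).2 ⟨h2, h3⟩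

theorem fm_mem {x i : ℕ} (hx : x ∈ [13, 16, 22]) (hi : i < 24) (h : (fm x).testBit i = true) :
    i = 0 ∨ i = 4 ∨ i = 6 ∨ i = 23 ∨ i = x := by
  have h0 : ([13, 16, 22].all fun x => pts.all fun i => !(fm x).testBit i || (Nat.beq i 0 ||
      (Nat.beq i 4 || (Nat.beq i 6 || (Nat.beq i 23 || Nat.beq i x))))) = true := by decide +kernel
  have h1 := List.all_eq_true.1 (List.all_eq_true.1 h0 x hx) i (mem_pts hi)
  rw [h, Bool.not_true, Bool.false_or, Bool.or_eq_true, Bool.or_eq_true, Bool.or_eq_true,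
    Bool.or_eq_true] at h1
  rcases h1 with h1 | h1 | h1 | h1 | h1
  · exact Or.inl (Nat.eq_of_beq_eq_true h1)
  · exact Or.inr (Or.inl (Nat.eq_of_beq_eq_true h1))
  · exact Or.inr (Or.inr (Or.inl (Nat.eq_of_beq_eq_true h1)))
  · exact Or.inr (Or.inr (Or.inr (Or.inl (Nat.eq_of_beq_eq_true h1))))
  · exact Or.inr (Or.inr (Or.inr (Or.inr (Nat.eq_of_beq_eq_true h1))))

theorem fm_sub {x i : ℕ} (hx : x ∈ [13, 16, 22]) (hi : i = 0 ∨ i = 4 ∨ i = 6 ∨ i = 23 ∨ i = x) :
    (fm x).testBit i = true ∧ (om x).testBit i = true := by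
  have h0 : ∀ x ∈ [13, 16, 22], ∀ i ∈ [0, 4, 6, 23, x], (fm x).testBit i = true ∧
      (om x).testBit i = true := by decide +kernel
  apply h0 x hx i
  rcases hi with rfl | rfl | rfl | rfl | rfl <;> simp

/-- an element of `M24` fixing `0, 4, 6, 23` and mapping `x` to `y` maps the octad of `x` to that of `y` -/
theorem oct_img {h : Equiv.Perm GolayPt} (hM : h ∈ M24) (h0 : val h 0 = 0) (h4 : val h 4 = 4)
    (h6 : val h 6 = 6) (h23 : val h 23 = 23) {x y : ℕ} (hx : x ∈ [13, 16, 22]) (hy : y ∈ [13, 16, 22])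
    (hxy : val h x = y) {i : ℕ} (hi : i < 24) (hb : (om x).testBit i = true) :
    (om y).testBit (val h i) = true := by
  have hc : popcount (fm x) = 5 := by
    have : ∀ x ∈ [13, 16, 22], popcount (fm x) = 5 := by decide +kernel
    exact this x hx
  have hsub : h • fin (fm x) ⊆ h • fin (om x) ∩ fin (om y) := by
    intro q hq
    obtain ⟨p, hp, rfl⟩ := Finset.mem_smul_finset.1 hq
    rw [mem_fin] at hp
    have h1 := fm_mem hx (idx_lt p) hp
    rw [Finset.mem_inter]
    constructor
    · apply Finset.smul_mem_smul_finset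
      rw [mem_fin]
      exact (fm_sub hx h1).2
    · rw [mem_fin]
      have h2 : idx (h • p) = val h (idx p) := by
        unfold val
        rw [pt_idx]
        rfl
      rw [h2]
      apply (fm_sub hy _).2
      rcases h1 with h1 | h1 | h1 | h1 | h1 <;> rw [h1]
      · exact Or.inl h0
      · exact Or.inr (Or.inl h4)
      · exact Or.inr (Or.inr (Or.inl h6))
      · exact Or.inr (Or.inr (Or.inr (Or.inl h23)))
      · exact Or.inr (Or.inr (Or.inr (Or.inr hxy)))
  have heq : h • fin (om x) = fin (om y) := by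
    apply octad_unique (SporadicA.M24Frames.smul_mem_octads hM (om_oct hx)) (om_oct hy)
    rw [← hc, ← card_fin, ← Finset.card_smul_finset h]
    exact Finset.card_le_card hsub
  have h5 : h • pt i ∈ fin (om y) := by
    rw [← heq]
    apply Finset.smul_mem_smul_finset
    rw [mem_fin, idx_pt hi]
    exact hb
  rw [mem_fin] at h5
  exact h5

/-- an element of `M24` fixing `0, 4, 6, 23` and the tetrads is trivial -/
theorem eq_one {h : Equiv.Perm GolayPt} (hM : h ∈ M24) (h0 : val h 0 = 0) (h4 : val h 4 = 4)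
    (h6 : val h 6 = 6) (h23 : val h 23 = 23) (hT : ∀ i < 24, T i ≠ 5 → T (val h i) = T i) : h = 1 := by
  have hx : ∀ x ∈ [13, 16, 22], val h x = x := by
    intro x hx
    have k0 : ([13, 16, 22].all fun x => pts.all fun y => !Nat.beq (T y) (T x) || (Nat.beq y 4 ||
      (Nat.beq y 13 || (Nat.beq y 16 || Nat.beq y 22)))) = true := by decide +kernel
    have hx24 : x < 24 ∧ T x ≠ 5 ∧ x ≠ 4 := by
      have : ∀ x ∈ [13, 16, 22], x < 24 ∧ T x ≠ 5 ∧ x ≠ 4 := by decide +kernel
      exact this x hx
    have k1 := List.all_eq_true.1 (List.all_eq_true.1 k0 x hx) (val h x) (mem_pts (val_lt h x))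
    rw [hT x hx24.1 hx24.2.1, Nat.beq_refl, Bool.not_true, Bool.false_or, Bool.or_eq_true,
      Bool.or_eq_true, Bool.or_eq_true] at k1
    have hy : val h x ∈ [13, 16, 22] := by
      rcases k1 with k1 | k1 | k1 | k1
      · exfalso
        apply hx24.2.2
        have k2 := Nat.eq_of_beq_eq_true k1
        rw [← h4] at k2
        exact val_inj hx24.1 (by norm_num) k2
      · rw [Nat.eq_of_beq_eq_true k1]; simp
      · rw [Nat.eq_of_beq_eq_true k1]; simp
      · rw [Nat.eq_of_beq_eq_true k1]; simp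
    by_contra hne
    have k3 : ([13, 16, 22].all fun x => [13, 16, 22].all fun y => Nat.beq y x || pts.any fun u =>
        (om x).testBit u && (!Nat.beq (T u) 5 && pts.all fun q => !(om y).testBit q ||
          !Nat.beq (T q) (T u))) = true := by decide +kernel
    have k4 := List.all_eq_true.1 (List.all_eq_true.1 k3 x hx) _ hy
    rw [Bool.or_eq_true] at k4
    rcases k4 with k4 | k4
    · exact hne (Nat.eq_of_beq_eq_true k4)
    · obtain ⟨u, hu, k5⟩ := List.any_eq_true.1 k4
      rw [Bool.and_eq_true, Bool.and_eq_true] at k5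
      obtain ⟨k6, k7, k8⟩ := k5
      have hu24 := lt_of_mem_pts hu
      have k9 := List.all_eq_true.1 k8 (val h u) (mem_pts (val_lt h u))
      have hu5 : T u ≠ 5 := by
        intro hh
        rw [hh] at k7
        cases k7
      rw [oct_img hM h0 h4 h6 h23 hx hy rfl hu24 k6, hT u hu24 hu5, Nat.beq_refl] at k9
      cases k9
  have h13 := hx 13 (by simp)
  have h16 := hx 16 (by simp)
  have h22 := hx 22 (by simp)
  have h7 : val h 7 = 7 := by
    have k0 : (pts.all fun y => !((om 22).testBit y && Nat.beq (T y) (T 7)) || (Nat.beq y 6 ||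
      Nat.beq y 7)) = true := by decide +kernel
    have k1 := List.all_eq_true.1 k0 (val h 7) (mem_pts (val_lt h 7))
    rw [oct_img hM h0 h4 h6 h23 (x := 22) (y := 22) (by simp) (by simp) h22 (by norm_num)
      (by decide +kernel), hT 7 (by norm_num) (by decide +kernel), Nat.beq_refl, Bool.and_true,
      Bool.not_true, Bool.false_or, Bool.or_eq_true] at k1
    rcases k1 with k1 | k1
    · exfalso
      have k2 := Nat.eq_of_beq_eq_true k1
      rw [← h6] at k2
      have := val_inj (by norm_num) (by norm_num) k2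
      omega
    · exact Nat.eq_of_beq_eq_true k1
  apply eq_of_val adm_frW hM (one_mem _)
  refine forall_frW (p := fun i => val h i = val 1 i) ?_
  intro i hi
  show val h i = val 1 i
  have hi24 : i < 24 := by
    simp only [List.mem_cons, List.not_mem_nil, or_false] at hi
    omega
  rw [val_one hi24]
  simp only [List.mem_cons, List.not_mem_nil, or_false] at hi
  rcases hi with rfl | rfl | rfl | rfl | rfl | rfl | rfl <;> assumption

/-- the kernel of the action on the tetrads, in `M22` -/
theorem ker22 {g : Equiv.Perm GolayPt} (hg : g ∈ Spor.M22) (hN : Nrm g W)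
    (h : ∀ j < 5, T (val g (rp j)) = j) : g ∈ W := by
  have hT : ∀ i < 24, T i ≠ 5 → T (val g i) = T i := by
    intro i hi h5
    have h1 := T_le hi
    have h2 : T i < 5 := by omega
    rw [T_congr hN hi (rp_lt h2) h5 (T_rp h2).symm, h _ h2]
  have k1 : T 4 ≠ 5 ∧ T 6 ≠ 5 := by decide +kernel
  have k3 : (pts.all fun q => pts.all fun r => !(Nat.beq (T q) (T 4) && Nat.beq (T r) (T 6)) ||
      WL.any fun P => Nat.beq (papp P 4) q && Nat.beq (papp P 6) r) = true := by decide +kernel
  have k4 := List.all_eq_true.1 (List.all_eq_true.1 k3 _ (mem_pts (val_lt g 4))) _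
    (mem_pts (val_lt g 6))
  rw [hT 4 (by norm_num) k1.1, hT 6 (by norm_num) k1.2, Nat.beq_refl, Nat.beq_refl, Bool.and_true,
    Bool.not_true, Bool.false_or] at k4
  obtain ⟨P, hP, h7⟩ := List.any_eq_true.1 k4
  rw [Bool.and_eq_true] at h7
  have e4 := Nat.eq_of_beq_eq_true h7.1
  have e6 := Nat.eq_of_beq_eq_true h7.2
  have hPW : pm P ∈ W := ⟨P, hP, rfl⟩
  have hp := pW hP
  -- `pm P * g` fixes 4 and 6
  have hPP : pm P * pm P = 1 := elW _ hPW
  have hval : ∀ i j, i < 24 → j < 24 → val g i = papp P j → val (pm P * g) i = j := by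
    intro i j hi hj e
    rw [val_mul, e, ← val_pm hp hj, ← val_mul, hPP, val_one hj]
  have h1 : pm P * g = 1 := by
    apply eq_one (mul_mem (M22_le24 (W_le22 hPW)) (M22_le24 hg))
    · exact hval 0 0 (by norm_num) (by norm_num) (by
        rw [val0 hg, W_fix (by norm_num) (by decide +kernel) hP])
    · exact hval 4 4 (by norm_num) (by norm_num) e4.symm
    · exact hval 6 6 (by norm_num) (by norm_num) e6.symm
    · exact hval 23 23 (by norm_num) (by norm_num) (by
        rw [val23 (M22_le23 hg), W_fix (by norm_num) (by decide +kernel) hP])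
    · intro i hi h5
      rw [val_mul, val_pm hp (val_lt g i), W_T (WP hP) (val_lt g i), hT i hi h5]
  have h2 : g = pm P := by
    calc g = pm P * pm P * g := by rw [hPP, one_mul]
      _ = pm P := by rw [mul_assoc, h1, mul_one]
  rw [h2]
  exact hPW

/-- an element of `P` fixes the tetrads -/
theorem T_P {g : Equiv.Perm GolayPt} (hg : g ∈ P) {i : ℕ} (hi : i < 24) : T (val g i) = T i := by
  obtain ⟨Q, hQ, rfl⟩ := hg
  rw [val_pm (pP hQ) hi, W_T hQ hi]

theorem nrm_P {g : Equiv.Perm GolayPt} (hg : g ∈ P) : Nrm g W := by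
  apply nrm_of
  intro x hx
  have h := comm_of_El elP hg (W_le_P hx)
  rw [h, mul_inv_cancel_right]
  exact hx

/-- the kernel of the action on the tetrads -/
theorem ker {g : Equiv.Perm GolayPt} (hg : g ∈ D22) (hN : Nrm g W)
    (h : ∀ j < 5, T (val g (rp j)) = j) : g ∈ P := by
  by_cases hK : g ∈ Spor.M22
  · exact W_le_P (ker22 hK hN h)
  · have h1 := out_b hg hK
    have h2 : g * b ∈ W := by
      apply ker22 h1 (nrm_mul hN (nrm_P b_mem))
      intro j hj
      have h3 := T_P b_mem (rp_lt hj)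
      rw [val_mul, T_congr hN (val_lt b _) (rp_lt hj) (by rw [h3, T_rp hj]; omega) h3, h j hj]
    have h3 := mul_mem (W_le_P h2) b_mem
    rwa [mul_assoc, bb, mul_one] at h3

end Cfsg.Agent.KFacts.MM.OutN

end

-- merged: Cfsg.Agent.KFacts.MM.OutM
section

/-!
# `M22:2`: ambient forms of `invL`, `odd`, `five`, and the fields over `ι : A ≃ D22` (helper969)
-/

set_option autoImplicit false
set_option Elab.async false

namespace Cfsg.Agent.KFacts.MM.OutM

open Cfsg Cfsg.Agent.KFacts.MM.El Cfsg.Agent.KFacts.MM.Data Cfsg.Agent.KFacts.MM.DataO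
open Cfsg.Agent.KFacts.MM.DataT Cfsg.Agent.KFacts.MM.Sub Cfsg.Agent.KFacts.MM.Int
open Cfsg.Agent.KFacts.MM.El16 Cfsg.Agent.KFacts.MM.Cent Cfsg.Agent.KFacts.MM.OutP
open Cfsg.Agent.KFacts.MM.OutT Cfsg.Agent.KFacts.MM.OutN
open Cfsg.Agent.SporadicA.GolayBase Cfsg.Agent.SporadicA.GolayPerm
open Cfsg.Agent.J4Type.Aut22 (D22 mem_D22_iff M22_le_D22 mem_M22_iff_D22)
open Cfsg.Agent.OddHalf.MM (Nrm Cen El)

/-! ### Involutions of `N(W)/P` -/

/-- the five indices -/
def r5 : List ℕ := [0, 1, 2, 3, 4]

theorem mem_r5 {j : ℕ} (hj : j < 5) : j ∈ r5 := by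
  unfold r5
  interval_cases j <;> simp

/-- the test for `f = (a, b, c, d, e)` -/
def tst (l : List ℕ) : Bool :=
  !(r5.all fun j => Nat.beq (l.getD (l.getD j 0) 0) j) || ((r5.all fun j => Nat.beq (l.getD j 0) j) ||
    iL.any fun w => r5.all fun j => Nat.beq (T (papp w (rp j))) (l.getD j 0))

theorem tst_all : (r5.all fun a => r5.all fun b => r5.all fun c => r5.all fun d => r5.all fun e =>
    tst [a, b, c, d, e]) = true := by decide +kernel

/-- the test for the elements of `iL` -/
def itst (w : ℕ) : Bool :=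
  ok22 w && (cj [w] WL && (weq [w, w] [] && ((WL.all fun x => !weq [w, x] [x, w] ||
    WL.any fun u => weq [x, u, w] [w, u]) && PO.any fun q => weq [w, q] [q, w])))

theorem itst_all : iL.all itst = true := by decide +kernel

theorem PO_PL {Q : ℕ} (hQ : Q ∈ PO) : Q ∈ PL ∧ pm Q ∉ W := by
  have h : (PO.all fun Q => (PL.any fun R => Nat.beq Q R) && WL.all (fun R => !weq [Q] [R])) = true := by
    decide +kernel
  have h1 := List.all_eq_true.1 h Q hQ
  rw [Bool.and_eq_true] at h1
  obtain ⟨R, hR, h2⟩ := List.any_eq_true.1 h1.1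
  have h3 : Q ∈ PL := by
    rw [Nat.eq_of_beq_eq_true h2]
    exact hR
  exact ⟨h3, out_of h3 h1.2⟩

theorem mem_PO {Q : ℕ} (hQ : Q ∈ PL) (h : pm Q ∉ W) : Q ∈ PO := by
  have h0 : (PL.all fun Q => (WL.any fun R => Nat.beq Q R) || PO.any (fun R => Nat.beq Q R)) = true := by
    decide +kernel
  have h1 := List.all_eq_true.1 h0 Q hQ
  rw [Bool.or_eq_true] at h1
  rcases h1 with h1 | h1
  · obtain ⟨R, hR, h2⟩ := List.any_eq_true.1 h1
    rw [Nat.eq_of_beq_eq_true h2] at h
    exact absurd ⟨R, hR, rfl⟩ h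
  · obtain ⟨R, hR, h2⟩ := List.any_eq_true.1 h1
    rw [Nat.eq_of_beq_eq_true h2]
    exact hR

theorem invL {g : Equiv.Perm GolayPt} (hg : g ∈ D22) (hN : Nrm g W) (hP : g ∉ P) (h2 : g * g ∈ P) :
    ∃ w ∈ Spor.M22, w * w = 1 ∧ Nrm w W ∧ w⁻¹ * g ∈ P ∧
      (∀ x ∈ W, w * x = x * w → ∃ u ∈ W, x = w * u * w⁻¹ * u⁻¹) ∧ ∃ b0 ∈ P, b0 ∉ W ∧ w * b0 = b0 * w := by
  have hf : ∀ j < 5, T (val g (rp j)) < 5 := fun j hj => T_lt hN hj
  have hff : ∀ j < 5, T (val g (rp (T (val g (rp j))))) = j := by
    intro j hj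
    have h3 := T_P h2 (rp_lt hj)
    rw [val_mul, T_rp hj] at h3
    rw [T_congr hN (rp_lt (hf j hj)) (val_lt g _) (by rw [T_rp (hf j hj)]; have := hf j hj; omega)
      (T_rp (hf j hj)), h3]
  let l : List ℕ := [T (val g (rp 0)), T (val g (rp 1)), T (val g (rp 2)), T (val g (rp 3)),
    T (val g (rp 4))]
  have hl : ∀ j < 5, l.getD j 0 = T (val g (rp j)) := by
    intro j hj
    interval_cases j <;> rfl
  have h3 : tst l = true :=
    List.all_eq_true.1 (List.all_eq_true.1 (List.all_eq_true.1 (List.all_eq_true.1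
      (List.all_eq_true.1 tst_all _ (mem_r5 (hf 0 (by norm_num)))) _ (mem_r5 (hf 1 (by norm_num)))) _
      (mem_r5 (hf 2 (by norm_num)))) _ (mem_r5 (hf 3 (by norm_num)))) _ (mem_r5 (hf 4 (by norm_num)))
  have hr5 : ∀ j ∈ r5, j < 5 := by decide +kernel
  have h4 : (r5.all fun j => Nat.beq (l.getD (l.getD j 0) 0) j) = true := by
    rw [List.all_eq_true]
    intro j hj
    have hj := hr5 j hj
    rw [hl j hj, hl _ (hf j hj), hff j hj]
    exact Nat.beq_refl _
  unfold tst at h3
  rw [h4, Bool.not_true, Bool.false_or, Bool.or_eq_true] at h3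
  rcases h3 with h3 | h3
  · exfalso
    apply hP
    apply ker hg hN
    intro j hj
    have h5 := Nat.eq_of_beq_eq_true (List.all_eq_true.1 h3 j (mem_r5 hj))
    rwa [hl j hj] at h5
  obtain ⟨w, hw, h5⟩ := List.any_eq_true.1 h3
  have h6 : ∀ j < 5, T (papp w (rp j)) = T (val g (rp j)) := by
    intro j hj
    rw [← hl j hj]
    exact Nat.eq_of_beq_eq_true (List.all_eq_true.1 h5 j (mem_r5 hj))
  have h7 := List.all_eq_true.1 itst_all w hw
  unfold itst at h7
  rw [Bool.and_eq_true, Bool.and_eq_true, Bool.and_eq_true, Bool.and_eq_true] at h7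
  obtain ⟨k1, k2, k3, k4, k5⟩ := h7
  obtain ⟨hp, hM⟩ := mem_of_ok22 k1
  have hww : pm w * pm w = 1 := by
    have := pr_of_weq (okl2 hp hp) rfl k3
    rwa [pr_two, pr_nil] at this
  have hwi : (pm w)⁻¹ = pm w := inv_eq_of_mul_eq_one_left hww
  have hwN : Nrm (pm w) W := Tr.nrm_of_cj hp k2
  refine ⟨pm w, hM, hww, hwN, ?_, ?_, ?_⟩
  · rw [hwi]
    apply ker (mul_mem (M22_le_D22 hM) hg) (nrm_mul hwN hN)
    intro j hj
    rw [val_mul, ← T_congr hwN (rp_lt (hf j hj)) (val_lt g _)
      (by rw [T_rp (hf j hj)]; have := hf j hj; omega) (T_rp (hf j hj)),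
      val_pm hp (rp_lt (hf j hj)), h6 _ (hf j hj), hff j hj]
  · rintro _ ⟨X, hX, rfl⟩ hc
    have k6 := List.all_eq_true.1 k4 X hX
    rw [Bool.or_eq_true, Bool.not_eq_true'] at k6
    rcases k6 with k6 | k6
    · exfalso
      apply pr_ne (okl2 hp (pW hX)) (okl2 (pW hX) hp) k6
      rw [pr_two, pr_two, hc]
    · obtain ⟨U, hU, k7⟩ := List.any_eq_true.1 k6
      have k8 := pr_of_weq (okl3 (pW hX) (pW hU) hp) (okl2 hp (pW hU)) k7
      rw [pr_three, pr_two] at k8
      have hUW : pm U ∈ W := ⟨U, hU, rfl⟩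
      refine ⟨pm U, hUW, ?_⟩
      have e : pm X = pm X * pm U * pm w * (pm w)⁻¹ * (pm U)⁻¹ := by group
      rw [e, k8]
  · obtain ⟨Q, hQ, k6⟩ := List.any_eq_true.1 k5
    obtain ⟨hQL, hQW⟩ := PO_PL hQ
    have k7 := pr_of_weq (okl2 hp (pP hQL)) (okl2 (pP hQL) hp) k6
    rw [pr_two, pr_two] at k7
    exact ⟨pm Q, ⟨Q, hQL, rfl⟩, hQW, k7⟩

/-! ### Elements of odd order -/

def otst (Q : ℕ) (d : ℕ) : Bool :=
  ok22 d && (cj [d] WL && (weq [d, Q] [Q, d] && ((weq [d, d, d] [] || weq [d, d, d, d, d] []) &&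
    PL.all fun x => !weq [d, x] [x, d] || (weq [x] [] || weq [x] [Q]))))

theorem otst_all : (PO.all fun Q => oL.any (otst Q)) = true := by decide +kernel

theorem odd {u : Equiv.Perm GolayPt} (hu : u ∈ P) (hW : u ∉ W) : ∃ d ∈ Spor.M22, Nrm d W ∧
    Odd (orderOf d) ∧ d * u = u * d ∧ ∀ x ∈ P, d * x = x * d → x = 1 ∨ x = u := by
  obtain ⟨Q, hQ, rfl⟩ := hu
  obtain ⟨d, -, h1⟩ := List.any_eq_true.1 (List.all_eq_true.1 otst_all Q (mem_PO hQ hW))
  unfold otst at h1
  rw [Bool.and_eq_true, Bool.and_eq_true, Bool.and_eq_true, Bool.and_eq_true] at h1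
  obtain ⟨k1, k2, k3, k4, k5⟩ := h1
  obtain ⟨hp, hM⟩ := mem_of_ok22 k1
  refine ⟨pm d, hM, Tr.nrm_of_cj hp k2, ?_, ?_, ?_⟩
  · have h15 : pm d ^ 15 = 1 := by
      rw [Bool.or_eq_true] at k4
      rcases k4 with k4 | k4
      · have h3 := pr_of_weq (l := [d, d, d]) (m := []) (okl3 hp hp hp) rfl k4
        rw [pr_three, pr_nil] at h3
        have h4 : pm d ^ 3 = 1 := by rw [pow_succ, pow_two, h3]
        rw [show 15 = 3 * 5 by norm_num, pow_mul, h4, one_pow]
      · have h3 := pr_of_weq (l := [d, d, d, d, d]) (m := []) (by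
          unfold okl
          simp only [List.all_cons, hp, List.all_nil]
          rfl) rfl k4
        rw [pr_cons, pr_four, pr_nil] at h3
        have h4 : pm d ^ 5 = 1 := by
          rw [← h3]
          simp only [pow_succ, pow_zero, one_mul, mul_assoc]
        rw [show 15 = 5 * 3 by norm_num, pow_mul, h4, one_pow]
    exact Odd.of_dvd_nat (by decide) (orderOf_dvd_of_pow_eq_one h15)
  · have := pr_of_weq (okl2 hp (pP hQ)) (okl2 (pP hQ) hp) k3
    rwa [pr_two, pr_two] at this
  · rintro _ ⟨X, hX, rfl⟩ hc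
    have k6 := List.all_eq_true.1 k5 X hX
    rw [Bool.or_eq_true, Bool.or_eq_true, Bool.not_eq_true'] at k6
    rcases k6 with k6 | k6 | k6
    · exfalso
      apply pr_ne (okl2 hp (pP hX)) (okl2 (pP hX) hp) k6
      rw [pr_two, pr_two, hc]
    · left
      have := pr_of_weq (okl1 (pP hX)) rfl k6
      rwa [pr_one, pr_nil] at this
    · right
      have := pr_of_weq (okl1 (pP hX)) (okl1 (pP hQ)) k6
      rwa [pr_one, pr_one] at this

theorem five : ∃ r ∈ Spor.M22, ∃ κ ∈ Spor.M22, orderOf r = 5 ∧ Nrm r W ∧ Nrm κ W ∧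
    κ * r * κ⁻¹ = r * r := by
  have h : (ok22 rP && (ok22 kP && (cj [rP] WL && (cj [kP] WL && (weq [rP, rP, rP, rP, rP] [] &&
      (!weq [rP] [] && weq [kP, rP] [rP, rP, kP])))))) = true := by decide +kernel
  rw [Bool.and_eq_true, Bool.and_eq_true, Bool.and_eq_true, Bool.and_eq_true, Bool.and_eq_true,
    Bool.and_eq_true, Bool.not_eq_true'] at h
  obtain ⟨k1, k2, k3, k4, k5, k6, k7⟩ := h
  obtain ⟨hr, hrM⟩ := mem_of_ok22 k1
  obtain ⟨hk, hkM⟩ := mem_of_ok22 k2
  refine ⟨pm rP, hrM, pm kP, hkM, ?_, Tr.nrm_of_cj hr k3, Tr.nrm_of_cj hk k4, ?_⟩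
  · have : Fact (Nat.Prime 5) := ⟨by norm_num⟩
    apply orderOf_eq_prime
    · have h3 := pr_of_weq (l := [rP, rP, rP, rP, rP]) (m := []) (by
        unfold okl
        simp only [List.all_cons, hr, List.all_nil]
        rfl) rfl k5
      rw [pr_cons, pr_four, pr_nil] at h3
      rw [← h3]
      simp only [pow_succ, pow_zero, one_mul, mul_assoc]
    · intro e
      apply pr_ne (l := [rP]) (m := []) (okl1 hr) rfl k6
      rw [pr_one, pr_nil, e]
  · have h3 := pr_of_weq (okl2 hk hr) (okl3 hr hr hk) k7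
    rw [pr_two, pr_three] at h3
    rw [h3, mul_inv_cancel_right]

end Cfsg.Agent.KFacts.MM.OutM

end
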